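import Cfsg.Agent.H86.O6.Def
import Cfsg.Agent.H46.SOG2

/-! STD-SP (row S3129), endgame, orthogonal model: kit and statement for the slot `RA2` (`Sp₆(2) ≤ Ω₈^±(2)`). -/

set_option autoImplicit false
set_option linter.unusedSectionVars false

namespace H86.O6.JRA

open H64.SG (O2 Syl Cz Cs Ns cjs Is2 Inv2 IsO2 fx)
open H64.YE (RA PO)
open H67.SA (St cm)
open H59.SO H46.SOG H86.O6
open H56 H58 QuadraticMap Module Subgroup

variable {F V : Type} [Field F] [Finite F] [CharP F 2] [AddCommGroup V] [Module F V]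
  [FiniteDimensional F V] {Q : QuadraticForm F V}

theorem cm_E {B : Subgroup (Om Q)} {u m : V} {x : Om Q} (hu : Q u = 0) (hm : polar Q u m = 0)
    (hx : x ∈ B) (h1 : x.1 u = u) (hp : E Q u m ∈ Ns B) : E Q u (x.1 m + m) ∈ B := by
  have := cm_mem_left hx hp
  rw [H67.SA.cm, E_conj, h1, E_inv, ← E_add hu (by rw [← h1, O.map_polar, hm]) hm] at this
  exact this

theorem strip {B : Subgroup (Om Q)} {u v y : V} (h : TS Q u v) (hz : ∀ c : F, E Q u (c • v) ∈ B)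
    (hy : polar Q u y = 0) {s t : F} (hB : E Q u (y + s • v + t • u) ∈ B) : E Q u y ∈ B := by
  rw [E_add_smul_self t h.qu (by simp [hy, h.uv]), E_add h.qu hy (by simp [h.uv])] at hB
  exact (mul_mem_cancel_right (hz s)).1 hB

variable (r : Fr Q)

/-- The two families of elements that exchange `E e₀` and `E e₁`. -/
theorem key {B : Subgroup (Om Q)} (hz : ∀ c, r.z c ∈ B) {a : V} (ha : a ∈ r.W) (s : F)
    (p0 : E Q (r.e 0) (s • r.f 1 + a) ∈ Ns B) (p1 : E Q (r.e 1) (s • r.f 0 + a) ∈ Ns B)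
    {a0 a1 : V} (h0 : a0 ∈ LP r) (h1 : a1 ∈ LP r) (hx : E Q (r.e 0) a0 * E Q (r.e 1) a1 ∈ B) :
    E Q (r.e 0) (s • a1) ∈ B ∧ E Q (r.e 1) (s • a0) ∈ B := by
  have hf := (mem_Fx r).1 (mul_mem (E_mem_Fx r (e_LP r 0) h0) (E_mem_Fx r (e_LP r 1) h1))
  rw [mem_LP] at h0 h1
  have m0 : polar Q (r.e 0) (s • r.f 1 + a) = 0 := by simp [r.ef, W_e r ha]
  have m1 : polar Q (r.e 1) (s • r.f 1 + a) = s := by simp [r.ef, W_e r ha]
  have n0 : polar Q (r.e 0) (s • r.f 0 + a) = s := by simp [r.ef, W_e r ha]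
  have n1 : polar Q (r.e 1) (s • r.f 0 + a) = 0 := by simp [r.ef, W_e r ha]
  constructor
  · have := cm_E (r.qe 0) m0 hx hf.1 p0
    generalize s • r.f 1 + a = m at this m0 m1
    rw [mul_ap, E_apply (r.qe 1) h1.2, m1, E_apply_orth (r.qe 0) h0.1 (by simp [m0, h1.1, r.ee])]
      at this
    generalize polar Q a0 _ = t at this
    refine strip r.ts hz (by simp [h1.1]) (s := polar Q a1 m + Q a1 * s) (t := t) ?_
    convert this using 2
    have := add_self2 F m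
    linear_combination (norm := module) -this
  · have := cm_E (r.qe 1) n1 hx hf.2 p1
    generalize s • r.f 0 + a = m at this n0 n1
    rw [mul_ap, E_apply_orth (r.qe 1) h1.2 n1, E_apply (r.qe 0) h0.1] at this
    rw [show polar Q (r.e 0) (m + polar Q a1 m • r.e 1) = s by simp [n0, r.ee]] at this
    generalize polar Q a0 _ = t at this
    refine strip r.ts.symm (fun c => by rw [r.ts.swap]; exact hz c) (by simp [h0.2])
      (s := t + Q a0 * s) (t := polar Q a1 m) ?_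
    convert this using 2
    have := add_self2 F m
    linear_combination (norm := module) -this

theorem sqs (p : Par0 Q) : ∃ x ∈ r.QQ, ∃ y ∈ r.QQ, x ∉ r.Z ∧ y ∉ r.Z ∧ x * x ≠ y * y := by
  have m0 := (E_mem_Ql (Q := Q) (r.ee 0 2) (r.ee 1 2)).1
  have m1 := (E_mem_Ql (Q := Q) (u := r.e 0) (v := r.e 1) (w := r.f 2) (by simp [r.ef])
    (by simp [r.ef])).2
  have yy : E Q (r.e 0) (r.e 2) * E Q (r.e 1) (r.f 2) * (E Q (r.e 0) (r.e 2) * E Q (r.e 1) (r.f 2)) ≠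
      1 := by
    have := E_cm (r.qe 0) (r.qe 1) (r.ee ..) (r.ee 0 2) (r.ee 1 2) (b := r.f 2) (by simp [r.ef])
      (by simp [r.ef])
    rw [H67.SA.cm, E_inv, E_inv, r.ef, if_pos rfl] at this
    rw [← mul_assoc, this]
    exact fun h => one_ne_zero ((r.z_eq_one p).1 h)
  refine ⟨_, m0, _, mul_mem m0 m1, fun h => ?_, fun h => ?_, by rw [E_sq]; exact yy.symm⟩
  · obtain ⟨c, hc⟩ := r.mem_Z.1 h
    obtain ⟨d, hd⟩ := (E_inj p.nd (r.ne 0) (r.qe 0) (r.ee ..) (by simp [r.ee])).1 hc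
    simpa [r.fe] using congrArg (polar Q (r.f 2)) hd
  · obtain ⟨c, hc⟩ := r.mem_Z.1 h
    exact yy (hc ▸ E_sq ..)

end H86.O6.JRA

namespace H86.O6

open H64.SG (Cs Ns)
open H64.YE (PO)

/-- The weak form of `RA` (`Q / Z` is not irreducible for `Ω₈⁺(2)`). -/
def JobRA2 : Prop := AllD fun _ _ _ _ _ _ _ _ _ _ Q _ r w => (∀ z ∈ r.Z, ta Q w z = z) ∧
  ∀ B, r.Z ≤ B → B ≤ r.QQ → PO (cc r w) r.Z ≤ Ns B → r.QQ ≤ B ∨ (B ⊓ Cs B ≤ r.Z ∧
    ∃ x ∈ r.QQ ⊓ Cs B, ∃ y ∈ r.QQ ⊓ Cs B, x ∉ B ∧ y ∉ B ∧ x * x ≠ y * y)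

end H86.O6
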