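import Cfsg.Agent.H86.O6.Def
import Cfsg.Agent.H85.P6.H86_SPIFin

/-! STD-SP endgame (row S3129), orthogonal model, slot `Dc`: the concrete dictionary. -/

set_option autoImplicit false
set_option linter.unusedSectionVars false

namespace H86.O6.JDc

open H64.SG (Syl)
open H85.P6.H67.SP (Lr Sr q0 kk)
open H85.P6.H67.UA (XU Vn ev hf Li TT qq EE rt rt_sq sq_inj)
open H67.SA (St mem_St_of_finite)
open H59.SO (Om E gam TS Root Fr Par0)
open H86.O6 H85.P6.H86.SPI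
open H56 H58 QuadraticMap Module Subgroup

section Frame

variable {F V : Type} [Field F] [AddCommGroup V] [Module F V] {Q : QuadraticForm F V}

/-- The elements that fix the flag of the frame. -/
def flag (r : Fr Q) : Subgroup (Om Q) where
  carrier := {g | g.1 (r.e 0) = r.e 0 ∧ (∃ a : F, g.1 (r.e 1) = r.e 1 + a • r.e 0) ∧
    ∃ a b : F, g.1 (r.e 2) = r.e 2 + a • r.e 0 + b • r.e 1}
  one_mem' := ⟨rfl, ⟨0, by simp⟩, 0, 0, by simp⟩
  mul_mem' := by
    rintro g h ⟨g0, ⟨a, g1⟩, b, c, g2⟩ ⟨h0, ⟨a', h1⟩, b', c', h2⟩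
    refine ⟨?_, ⟨a + a', ?_⟩, b + b' + c' * a, c + c', ?_⟩ <;>
      simp only [Subgroup.coe_mul, O.mul_apply, h0, h1, h2, map_add, map_smul, g0, g1, g2]
    all_goals module
  inv_mem' := by
    rintro g ⟨g0, ⟨a, g1⟩, b, c, g2⟩
    have k : ∀ x y, g.1 x = y → (g⁻¹).1 y = x := fun x y h => by
      rw [← h, Subgroup.coe_inv, O.inv_apply_apply]
    refine ⟨k _ _ g0, ⟨-a, k _ _ ?_⟩, c * a - b, -c, k _ _ ?_⟩ <;>
      simp only [map_add, map_smul, g0, g1, g2]
    all_goals module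

theorem exists_fr [Finite F] [CharP F 2] [FiniteDimensional F V] (p : Par0 Q) {e f : Fin 3 → V}
    (h : IsHypFrame Q e f) {w : V} (hw : ∀ i, polar Q w (e i) = 0) :
    ∃ r : Fr Q, r.e = e ∧ r.f = f ∧ ta Q w ∈ St r.U := by
  obtain ⟨r0⟩ := p.nonempty_fr
  obtain ⟨g, he, hf⟩ := Fr.exists_cj p r0 h
  generalize r0.cj g = r at he hf
  subst he hf
  have h2 : ta Q w * ta Q w = 1 := by rw [ta, ← map_mul, ← map_mul, refl_mul_self, map_one, map_one]
  have k : ∀ i, refl Q w (r.e i) = r.e i := fun i => refl_apply_of_orth (hw i)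
  have hA : ta Q w ∈ St (flag r) := mem_St_of_finite fun y ⟨y0, ⟨a, y1⟩, b, c, y2⟩ => by
    refine ⟨?_, ⟨a, ?_⟩, b, c, ?_⟩ <;>
      simp only [ta, H59.SO.gam_ofO_val, refl_inv, O.mul_apply, k, y0, y1, y2, map_add, map_smul]
  obtain ⟨T, hT, hs⟩ := H59.SO.exists_syl_St h2 hA
  have hU : r.U ≤ flag r := fun y hy => ⟨r.u0 y hy, r.u1 y hy, r.u2 y hy⟩
  refine ⟨r.withU T ⟨le_top, hT.2.1, ?_⟩ (fun y hy => (hT.1 hy).1) (fun y hy => (hT.1 hy).2.1)
    fun y hy => (hT.1 hy).2.2, rfl, rfl, hs⟩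
  rw [← relIndex_mul_relIndex T (flag r) ⊤ hT.1 le_top]
  exact hT.2.2.mul (r.syl.2.2.of_dvd_nat (relIndex_dvd_of_le_left _ hU))

end Frame

variable {n : ℕ} {F : Type} [Field F] [StarRing F] [TrivialStar F] [CharP F 2] [Finite F]
  [hp : H85.P6.H67.SP.Par n F]

theorem pw (δ : F) (x : WW n F) : polar (H85.P6.H86.SPI.QD n F δ) x (w0 n F) = x.2.2 := by
  simp [polar_QD, w0]

theorem eq_lf {δ : F} {x : WW n F} (h : H85.P6.H86.SPI.QD n F δ x = 0) (h' : polar (H85.P6.H86.SPI.QD n F δ) x (w0 n F) = 0) :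
    x = lf x.1 := by
  obtain ⟨v, a, b⟩ := x
  rw [pw] at h'
  obtain rfl : b = 0 := h'
  rw [QD_apply] at h
  have : a = rt (q0 v) := sq_inj (by
    rw [rt_sq]; linear_combination h - q0 v * H85.P6.H67.UA.two0 F)
  rw [lf, this]

theorem p_lf (δ : F) (u v : Vn n F) : polar (H85.P6.H86.SPI.QD n F δ) (lf u) (lf v) = hf u v := by
  simp [polar_QD, lf]

theorem iT (δ : F) (v : Vn n F) : iO n F δ (TT v) = E (H85.P6.H86.SPI.QD n F δ) (lf v) (w0 n F) := by
  simpa [w0] using (mi n F).ee δ v 0 1 (by simp)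

theorem iQ (δ : F) {u v : Vn n F} (h : hf u v = 0) :
    iO n F δ (qq v u) = E (H85.P6.H86.SPI.QD n F δ) (lf u) (lf v) := by
  have := (mi n F).ee δ u v (rt (q0 v)) (by rw [hf_comm, h])
  rwa [rt_sq, CharTwo.add_self_eq_zero] at this

theorem lr (δ : F) (u : XU n F) : Lr u ↔ ∃ x, x ≠ 0 ∧ H85.P6.H86.SPI.QD n F δ x = 0 ∧
    polar (H85.P6.H86.SPI.QD n F δ) x (w0 n F) = 0 ∧ iO n F δ u = E (H85.P6.H86.SPI.QD n F δ) x (w0 n F) := by
  constructor
  · rintro ⟨v, hv, rfl⟩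
    exact ⟨lf v, fun e => hv (congrArg Prod.fst e), QD_lf δ v, pw δ _, iT δ v⟩
  · rintro ⟨x, h0, h1, h2, h3⟩
    have e := eq_lf h1 h2
    refine ⟨x.1, fun k => h0 ?_, (mi n F).inj δ (by rw [h3, iT, ← e])⟩
    rw [e, k, lf_of q0_zero]; rfl

theorem sr (δ : F) (u : XU n F) : Sr u ↔ Root (H85.P6.H86.SPI.QD n F δ) (iO n F δ u) := by
  constructor
  · rintro ⟨x, y, h, hl, rfl⟩
    refine ⟨lf x, lf y, TS.of_ne (QD_lf δ x) (QD_lf δ y) (by rw [p_lf, h]) (fun e => ?_)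
      fun c e => ?_, iQ δ h⟩
    · have : x = 0 := congrArg Prod.fst e
      exact one_ne_zero (hl 1 0 (by simp [this])).1
    · have : y = c • x := congrArg Prod.fst e
      exact one_ne_zero (hl c 1 (by simp [this])).2
  · rintro ⟨x, y, h, e⟩
    have h1 := ((mi n F).isIo δ u).1
    rw [e, H59.SO.E_apply h.qu h.uv, h.qv, zero_mul, zero_smul, add_zero, add_assoc,
      add_eq_left] at h1
    obtain ⟨h2, h3⟩ := LinearIndependent.pair_iff.1 h.ind _ _ h1
    have ex := eq_lf h.qu h3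
    have ey := eq_lf h.qv h2
    have h4 : hf x.1 y.1 = 0 := by rw [← p_lf δ, ← ex, ← ey, h.uv]
    refine ⟨x.1, y.1, h4, fun a b k => LinearIndependent.pair_iff.1 h.ind a b ?_,
      (mi n F).inj δ (by rw [e, iQ δ h4, ← ex, ← ey])⟩
    have k1 : H85.P6.H86.SPI.QD n F δ (a • x + b • y) = 0 := by
      simp [H56.Q_add, H56.Q_smul, h.qu, h.qv, h.uv]
    have k2 : polar (H85.P6.H86.SPI.QD n F δ) (a • x + b • y) (w0 n F) = 0 := by simp [h2, h3]
    rw [eq_lf k1 k2, show (a • x + b • y).1 = 0 from k, lf_of q0_zero]; rfl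

include hp in
theorem lie (δ : F) : Cfsg.IsLieTypeChar 2 (Om (H85.P6.H86.SPI.QD n F δ)) := by
  have := Fintype.ofFinite F
  have k : 3 ≤ kk n := by have := hp.five; unfold kk; omega
  rcases mo n F δ with h | ⟨a, b, h1, h2⟩
  · exact .inr (.inr (.inr (.inr (.inl ⟨F, _, this, inferInstance, kk n + 1, by omega, h⟩))))
  · exact .inr (.inr (.inr (.inr (.inr (.inl
      ⟨F, _, this, inferInstance, kk n + 1, a, b, by omega, h1, h2⟩)))))

theorem dc (q : Nat.card F = 2) (δ : F) : ∃ r : Fr (H85.P6.H86.SPI.QD n F δ), Dc (iO n F δ) r (w0 n F) := by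
  have h8 : finrank F (WW n F) = 8 := by simp [hp.six]
  have h5 := hp.five
  obtain ⟨m, hm⟩ := hp.odd
  let c : Fin 3 → Fin (n + 1) := fun i => ⟨i, by omega⟩
  have hc : ∀ i, (c i).val = i := fun _ => rfl
  have h : IsHypFrame (H85.P6.H86.SPI.QD n F δ) (fun i => (ev (c i), 0, 0)) fun i => (ev (c i).rev, 0, 0) := by
    refine ⟨fun i => ?_, fun i => ?_, fun i j => ?_, fun i j => ?_, fun i j => ?_⟩
    · simp [QD_apply, q0_ev]
    · simp [QD_apply, q0_ev]
    · simp only [polar_QD, H85.P6.H67.UA.hf_ev, Fin.rev_inj, mul_zero, add_zero]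
      exact if_congr ⟨fun e => Fin.ext (by rw [← hc i, ← hc j, e]), fun e => by rw [e]⟩ rfl rfl
    · simp only [polar_QD, H85.P6.H67.UA.hf_ev, mul_zero, add_zero]
      refine if_neg fun e => ?_
      have := congrArg Fin.val e
      have hi := i.2
      have hj := j.2
      simp only [Fin.val_rev, hc] at this
      omega
    · simp only [polar_QD, H85.P6.H67.UA.hf_ev, mul_zero, add_zero, Fin.rev_rev]
      refine if_neg fun e => ?_
      have := congrArg Fin.val e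
      have hi := i.2
      have hj := j.2
      simp only [Fin.val_rev, hc] at this
      omega
  obtain ⟨r, he, hf, hs⟩ := exists_fr ((mi n F).par δ) h (w := w0 n F) fun i => by
    rw [polar_comm, pw]
  refine ⟨r, ⟨(mi n F).par δ, q, h8⟩, QD_w0 δ, fun i => by rw [he, pw], fun i => by rw [hf, pw],
    (mi n F).inj δ, fun y => ⟨?_, (mi n F).rng δ y⟩, hs, lr δ, sr δ, lie δ⟩
  rintro ⟨g, rfl⟩
  exact ((mi n F).isIo δ g).1

omit hp in
theorem jobDc : JobDc := fun n F _ _ _ _ _ hn q _ _ δ =>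
  have : H85.P6.H67.SP.Par n F := ⟨by rw [hn.out]; decide, hn.out.ge, hn.out⟩
  dc q δ

end H86.O6.JDc
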