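import Cfsg.Agent.H86.O6.Def

/-! STD-SP (row S3129), endgame, orthogonal model: slot `KD`. -/

set_option autoImplicit false
set_option linter.unusedSectionVars false

namespace H86.O6.JKD

open H64.SG (Cs Ns cjs)
open H64.YE (MI LS tw)
open H67.UA (XU)
open H59.SO (Om E TS Root Ru Fr)
open H56 QuadraticMap Module Subgroup H86.O6

variable {F V : Type} [Field F] [AddCommGroup V] [Module F V] {Q : QuadraticForm F V}

theorem li3 {u v c : V} (h : TS Q u v) (hc : Q c ≠ 0) : LinearIndependent F ![u, v, c] := by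
  rw [Fintype.linearIndependent_iff]
  intro g hg
  simp only [Fin.sum_univ_three, Matrix.cons_val_zero, Matrix.cons_val_one, Matrix.cons_val] at hg
  have h2 : g 2 = 0 := by
    have e : Q (g 2 • c) = Q (g 0 • u + g 1 • v) := by
      rw [eq_neg_of_add_eq_zero_right hg, QuadraticMap.map_neg]
    rw [Q_add, Q_smul, Q_smul, Q_smul, h.qu, h.qv, polar_smul_left, polar_smul_right, h.uv] at e
    simpa [hc] using e
  rw [h2, zero_smul, add_zero] at hg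
  obtain ⟨h0, h1⟩ := LinearIndependent.pair_iff.1 h.ind _ _ hg
  intro i
  fin_cases i
  exacts [h0, h1, h2]

theorem jobKD : JobKD := by
  intro n F _ _ _ _ _ _ b c o V _ _ _ Q ι r w d k
  have p := d.par.toPar0
  have ex : ∀ a, Q a ≠ 0 → ∃ (s : F) (g : Om Q), s ≠ 0 ∧ g.1 w = s • a := fun a ha => by
    obtain ⟨s, s0, s1⟩ := k.nm a ha
    obtain ⟨g, hg⟩ := k.w1 w _ d.qw s1
    exact ⟨s, g, s0, hg⟩
  have tf : ∀ a, Q a ≠ 0 → ∃ g, tw (ta Q w) g = ta Q a := fun a ha => by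
    obtain ⟨s, g, s0, hg⟩ := ex a ha
    exact ⟨g, by rw [k.tw, hg, k.sc a s s0]⟩
  have cE : Ec Q (cc r w) := ⟨r.e 0, w + r.e 1, r.ne 0, r.qe 0,
    by rw [polar_add_right, d.we, r.ee, add_zero],
    by rw [Q_add, d.qw, r.qe, polar_comm, d.we]; simp, rfl⟩
  have ee : ∀ B : Subgroup (Om Q), ∀ b ∈ B, ∀ (u : V) (s : F), Q u = 0 → polar Q u (b.1 w) = 0 →
      E Q u (s • b.1 w) ∈ B → E Q u (s • b.1 w) ∈ H64.YE.EG ι LS B := by
    intro B b hb u s hu hp hB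
    obtain ⟨x, rfl⟩ : ∃ x, u = b.1 x := ⟨(b⁻¹).1 u, by
      rw [← O.mul_apply, ← Subgroup.coe_mul, mul_inv_cancel]; rfl⟩
    rw [O.map_Q] at hu
    rw [O.map_polar] at hp
    have e : E Q (b.1 x) (s • b.1 w) = b * E Q (s • x) w * b⁻¹ := by
      rw [H59.SO.E_smul_left s hu hp, H59.SO.E_conj, map_smul]
    rw [e] at hB ⊢
    by_cases h0 : s • x = 0
    · rw [h0, H59.SO.E_zero_left, mul_one, mul_inv_cancel]; exact one_mem _
    have h1 : polar Q (s • x) w = 0 := by rw [polar_smul_left, hp, smul_zero]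
    obtain ⟨v, hv⟩ := (d.rng _).2 (H59.SO.E_fix h1 (H59.SO.polar_self2 w))
    refine subset_closure ⟨b, hb, v, d.inj (by rw [map_mul, hv, H59.SO.E_sq, map_one]),
      Or.inl ((d.lr v).2 ⟨_, h0, by rw [Q_smul, hu, mul_zero], h1, hv⟩), ?_, by rw [hv]⟩
    have := mul_mem (mul_mem (inv_mem hb) hB) hb
    rwa [show b⁻¹ * (b * E Q (s • x) w * b⁻¹) * b = E Q (s • x) w by group, ← hv] at this
  have fin : ∀ (B : Subgroup (Om Q)) (u a : V) (s : F), s ≠ 0 → ∀ b ∈ B, b.1 w = s • a → Q u = 0 →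
      polar Q u a = 0 → E Q u a ∈ B → E Q u a ∈ H64.YE.EG ι LS B := fun B u a s s0 b hb e hu hp hB => by
    have h1 : a = s⁻¹ • b.1 w := by rw [e, inv_smul_smul₀ s0]
    rw [h1] at hB ⊢
    exact ee B b hb u _ hu (by rw [e, polar_smul_right, hp, smul_zero]) hB
  have nR : ∀ g : Om Q, g.1 (r.e 0) = r.e 0 → g ∈ Ns r.R := fun g hg =>
    H98.cj_eq_self_iff.1 ((H59.SO.cjs_Ru g _).trans (by rw [hg]))
  refine ⟨fun y => ⟨?_, ?_⟩, tf, fun x y ⟨a, ha, h1, h2⟩ => ?_, fun y => ⟨fun h => ?_, fun h => ?_⟩,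
    cE, fun y => k.ec _ y cE, fun B y hy h1 h2 => ?_, ee, (closure_le _).2 ?_, (closure_le _).2 ?_,
    fun B B' h => closure_mono ?_⟩
  · rintro ⟨g, u, rfl⟩
    refine ⟨g.1 w, by rw [O.map_Q, d.qw]; exact one_ne_zero, ?_⟩
    rw [← O.mul_apply, ← Subgroup.coe_mul, inv_mul_cancel_right, Subgroup.coe_mul, O.mul_apply,
      (d.rng _).1 ⟨u, rfl⟩]
  · rintro ⟨a, ha, h⟩
    obtain ⟨s, g, -, hg⟩ := ex a ha
    obtain ⟨u, hu⟩ := (d.rng (g⁻¹ * y * g)).2 (by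
      have : y.1 (g.1 w) = g.1 w := by rw [hg, map_smul, h]
      rw [Subgroup.coe_mul, O.mul_apply, Subgroup.coe_mul, O.mul_apply, this, ← O.mul_apply,
        ← Subgroup.coe_mul, inv_mul_cancel]
      rfl)
    exact ⟨g, u, by rw [hu]; group⟩
  · obtain ⟨g, hg⟩ := tf a ha
    exact ⟨g, by rw [hg, k.fx a x ha, h1], by rw [hg, k.fx a y ha, h2]⟩
  · obtain ⟨g, rfl⟩ := isConj_iff.1 h
    exact (r.z_root one_ne_zero).conj g
  · obtain ⟨g, hg⟩ := d.fg.rootc y h 1 one_ne_zero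
    exact (isConj_iff.2 ⟨g, hg⟩).symm
  · obtain ⟨v, rfl⟩ := (d.rng y).2 h2
    exact subset_closure ⟨1, one_mem _, v, d.inj (by rw [map_mul, h1.eich.sq, map_one]),
      Or.inr ((d.sr v).2 h1), hy, by group⟩
  · rintro _ ⟨u, a, -, hu, hp, ha, h1, h2, -, -, rfl⟩
    obtain ⟨s, s0, s1⟩ := k.nm a ha
    obtain ⟨g, g1, g2⟩ := p.witt_c2 (r.ne 0) (r.qe 0) (d.we 0) (by rw [d.qw]; exact one_ne_zero)
      (r.ne 0) (r.qe 0) (w' := s • a) (by rw [polar_smul_right, h2, smul_zero]) (s1.trans d.qw.symm)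
    exact fin _ u a s s0 g (nR g g1) g2 hu hp
      (nR _ (H59.SO.E_fix (by rw [polar_comm, h1]) (by rw [polar_comm, h2])))
  · rintro _ ⟨u, a, -, hu, hp, ha, h1, h2, h3, h4, rfl⟩
    obtain ⟨s, s0, s1⟩ := k.nm a ha
    obtain ⟨g, hg⟩ := H91.SO.witt3 p (ι := Fin 3) (by simp) ![r.e 0, r.e 1, w] ![r.e 0, r.e 1, s • a]
      (li3 r.ts (by rw [d.qw]; exact one_ne_zero)) (li3 r.ts (by rw [s1]; exact one_ne_zero))
      (fun i => by fin_cases i <;> simp [s1, d.qw]) fun i j _ => by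
        fin_cases i <;> fin_cases j <;>
          simp [h2, h4, d.we, polar_comm Q w, polar_comm Q a, s1, d.qw]
    exact fin _ u a s s0 g (H59.SO.mem_P0_of_fix (hg 0) (hg 1)) (hg 2) hu hp
      (H59.SO.mem_P0_of_fix (H59.SO.E_fix (by rw [polar_comm, h1]) (by rw [polar_comm, h2]))
        (H59.SO.E_fix (by rw [polar_comm, h3]) (by rw [polar_comm, h4])))
  · rintro _ ⟨b, hb, v, h1, h2, h3, rfl⟩
    exact ⟨b, h hb, v, h1, h2, h h3, rfl⟩

end H86.O6.JKD
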