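import Cfsg.Agent.H86.O6.Def
import Cfsg.Agent.H48.SOIa

/-! STD-SP (row S3129), orthogonal model, slot `KR`: commuting root elements. -/

set_option autoImplicit false
set_option linter.unusedSectionVars false

namespace H86.O6.JKR

open H59.SO H86.O6
open H56 H58 QuadraticMap Module

variable {F V : Type} [Field F] [CharP F 2] [AddCommGroup V] [Module F V] {Q : QuadraticForm F V}
  {u v u' v' p a : V} {g h : Om Q}

theorem app (t : TS Q u v) (x : V) :
    (E Q u v).1 x = x + (polar Q v x • u + polar Q u x • v) := by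
  rw [E_apply t.qu t.uv, t.qv, zero_mul, zero_smul, add_zero, add_assoc]

theorem nv (t : TS Q u v) (x : V) :
    (E Q u v).1 x + x = polar Q v x • u + polar Q u x • v := by
  rw [app t, add_right_comm, add_self2 F, zero_add]

theorem reb0 (t : TS Q u v) {s c : F} (hs : s ≠ 0) :
    TS Q (s • u + c • v) (s⁻¹ • v) ∧ E Q u v = E Q (s • u + c • v) (s⁻¹ • v) := by
  have t1 : TS Q v (s • u + c • v) := (t.symm.smul hs).add_smul c
  refine ⟨t1.symm.smul (inv_ne_zero hs), ?_⟩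
  rw [t1.swap, smul_add, smul_smul, smul_smul, inv_mul_cancel₀ hs, one_smul,
    E_add_smul_self _ t.qv t.vu, E_swap t.qu t.qv t.uv]

/-- Change of basis of the line. -/
theorem reb (t : TS Q u v) {s c : F} (hp : p = s • u + c • v) (h0 : p ≠ 0) :
    ∃ w, TS Q p w ∧ E Q u v = E Q p w := by
  subst hp
  by_cases hs : s = 0
  · have hc : c ≠ 0 := by rintro rfl; simp [hs] at h0
    rw [add_comm, ← E_swap t.qu t.qv t.uv]
    exact ⟨_, reb0 t.symm hc⟩
  · exact ⟨_, reb0 t hs⟩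

/-- The two lines are skew. -/
def Sk (F : Type) [Field F] {V : Type} [AddCommGroup V] [Module F V] (u v u' v' : V) : Prop :=
  ∀ a b c d : F, a • u + b • v = c • u' + d • v' → a = 0 ∧ b = 0 ∧ c = 0 ∧ d = 0

theorem dich (hg : Root Q g) (hh : Root Q h) :
    (∃ p v v', TS Q p v ∧ TS Q p v' ∧ g = E Q p v ∧ h = E Q p v') ∨
    ∃ u v u' v', TS Q u v ∧ TS Q u' v' ∧ g = E Q u v ∧ h = E Q u' v' ∧ Sk F u v u' v' := by
  obtain ⟨u, v, t, rfl⟩ := hg
  obtain ⟨u', v', t', rfl⟩ := hh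
  by_cases k : ∃ a b c d : F, a • u + b • v = c • u' + d • v' ∧ a • u + b • v ≠ 0
  · obtain ⟨a, b, c, d, e, h0⟩ := k
    obtain ⟨w, k1, k2⟩ := reb t rfl h0
    obtain ⟨w', k3, k4⟩ := reb t' e h0
    exact .inl ⟨_, w, w', k1, k3, k2, k4⟩
  · refine .inr ⟨u, v, u', v', t, t', rfl, rfl, fun a b c d e => ?_⟩
    have h0 : a • u + b • v = 0 := by_contra fun h0 => k ⟨a, b, c, d, e, h0⟩
    have k1 := LinearIndependent.pair_iff.1 t.ind a b h0
    have k2 := LinearIndependent.pair_iff.1 t'.ind c d (e ▸ h0)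
    exact ⟨k1.1, k1.2, k2.1, k2.2⟩

/-- All four products vanish. -/
structure Or4 (Q : QuadraticForm F V) (u v u' v' : V) : Prop where
  uu : polar Q u u' = 0
  uv : polar Q u v' = 0
  vu : polar Q v u' = 0
  vv : polar Q v v' = 0

theorem Or4.pr (t : TS Q u v) (t' : TS Q u' v') (o : Or4 Q u v u' v') :
    Pr Q (E Q u v) (E Q u' v') := fun x y => by
  rw [nv t, nv t']
  simp [o.uu, o.uv, o.vu, o.vv]

/-- A vector fixed by the product is perpendicular to both lines. -/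
theorem Or4.fix (t : TS Q u v) (t' : TS Q u' v') (s : Sk F u v u' v') (o : Or4 Q u v u' v')
    (e : (E Q u v * E Q u' v').1 a = a) :
    polar Q u a = 0 ∧ polar Q v a = 0 ∧ polar Q u' a = 0 ∧ polar Q v' a = 0 := by
  change (E Q u v).1 ((E Q u' v').1 a) = a at e
  rw [app t', map_add, map_add, map_smul, map_smul, E_fix o.uu o.vu, E_fix o.uv o.vv, app t,
    add_assoc, add_eq_left, H48.SOI.add_eq0 F] at e
  obtain ⟨a, b, c, d⟩ := s _ _ _ _ e
  exact ⟨b, a, d, c⟩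

variable [FiniteDimensional F V] (nd : Q.polarBilin.Nondegenerate)
include nd

theorem or4_of_comm (t : TS Q u v) (t' : TS Q u' v') (s : Sk F u v u' v')
    (e : E Q u v * E Q u' v' = E Q u' v' * E Q u v) : Or4 Q u v u' v' := by
  have key : ∀ {u v : V}, TS Q u v → Sk F u v u' v' →
      E Q u v * E Q u' v' = E Q u' v' * E Q u v → polar Q u u' = 0 ∧ polar Q u v' = 0 :=
    fun {u v} t s e => by
      obtain ⟨a, b, k⟩ := H48.SOI.fix_line nd t e
      rw [app t'] at k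
      obtain ⟨-, -, k1, k2⟩ := s (a - 1) b (polar Q v' u) (polar Q u' u) (by
        rw [sub_smul, one_smul, sub_add_eq_add_sub, k, add_sub_cancel_left])
      exact ⟨(polar_comm _ _ _).trans k2, (polar_comm _ _ _).trans k1⟩
  have k1 := key t s e
  have k2 := key t.symm (fun a b c d k => by
    obtain ⟨k1, k2, k3⟩ := s b a c d (by rw [add_comm, k]); exact ⟨k2, k1, k3⟩)
    (by rwa [E_swap t.qu t.qv t.uv])
  exact ⟨k1.1, k1.2, k2.1, k2.2⟩

theorem ex_nv (t : TS Q u v) : (∃ x, (E Q u v).1 x + x = u) ∧ ∃ x, (E Q u v).1 x + x = v := by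
  obtain ⟨x, h1, h2⟩ := exists_dual_pair nd t.ind 0 1
  obtain ⟨y, h3, h4⟩ := exists_dual_pair nd t.ind 1 0
  exact ⟨⟨x, by rw [nv t]; simp [h1, h2]⟩, y, by rw [nv t]; simp [h3, h4]⟩

theorem or4_of_pr (t : TS Q u v) (t' : TS Q u' v') (e : Pr Q (E Q u v) (E Q u' v')) :
    Or4 Q u v u' v' := by
  obtain ⟨⟨x, hx⟩, y, hy⟩ := ex_nv nd t
  obtain ⟨⟨x', hx'⟩, y', hy'⟩ := ex_nv nd t'
  exact ⟨by simpa only [hx, hx'] using e x x', by simpa only [hx, hy'] using e x y',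
    by simpa only [hy, hx'] using e y x', by simpa only [hy, hy'] using e y y'⟩

theorem sing8 (h8 : finrank F V = 8) (t : TS Q u v) (t' : TS Q u' v') (s : Sk F u v u' v')
    (o : Or4 Q u v u' v') (h1 : polar Q u a = 0) (h2 : polar Q v a = 0) (h3 : polar Q u' a = 0)
    (h4 : polar Q v' a = 0) : Q a = 0 := by
  have li : LinearIndependent F ![u, v, u', v'] := by
    rw [Fintype.linearIndependent_iff]
    intro c hc
    simp only [Fin.sum_univ_four, Matrix.cons_val_zero, Matrix.cons_val_one, Matrix.cons_val] at hc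
    obtain ⟨k0, k1, k2, k3⟩ := s (c 0) (c 1) (c 2) (c 3) (by
      rw [← H48.SOI.add_eq0 F, ← add_assoc, hc])
    intro i
    fin_cases i <;> assumption
  have hs : ∀ x ∈ Submodule.span F (Set.range ![u, v, u', v']), Q x = 0 := fun x hx => by
    obtain ⟨c, rfl⟩ := (Submodule.mem_span_range_iff_exists_fun F).1 hx
    simp [Fin.sum_univ_four, H56.Q_add, H56.Q_smul, t.qu, t.qv, t.uv, t'.qu, t'.qv, t'.uv, o.uu,
      o.uv, o.vu, o.vv]
  have := perp_eq_of_singular nd hs (by rw [finrank_span_eq_card li, h8]; simp)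
  refine hs a (this ▸ mem_perp_span.2 ?_)
  rintro _ ⟨i, rfl⟩
  fin_cases i <;> assumption

theorem kr (k : KG Q) : KR Q := by
  have cf : ∀ g h : Om Q, Root Q g → Root Q h → g * h = h * g → Nv Q (g * h) →
      ∃ a, Q a ≠ 0 ∧ g.1 a = a ∧ h.1 a = a := fun g h hg hh e n => by
    obtain ⟨p, v, v', -, -, rfl, rfl⟩ | ⟨u, v, u', v', t, t', rfl, rfl, s⟩ := dich hg hh
    · obtain ⟨b, h0, h1, h2, h3⟩ := k.p3 p v v'
      exact ⟨b, by simp [h0], E_fix h1 h2, E_fix h1 h3⟩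
    · obtain ⟨a, h0, ha⟩ := n
      obtain ⟨h1, h2, h3, h4⟩ := (or4_of_comm nd t t' s e).fix t t' s ha
      exact ⟨a, h0, E_fix h1 h2, E_fix h3 h4⟩
  refine ⟨fun g h hg hh e => ?_, fun g h hg hh e n => cf g h hg hh e ?_,
    fun h8 g h hg hh e n => ?_, fun g h hg hh e => ?_⟩
  · obtain ⟨p, v, v', t, t', rfl, rfl⟩ | ⟨u, v, u', v', t, t', rfl, rfl, s⟩ := dich hg hh
    · by_cases h0 : polar Q v v' = 0
      · exact .inr (Or4.pr t t' ⟨polar_self2 p, t'.uv, t.vu, h0⟩)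
      · exact .inl ⟨p, v + v', t.ne, t.qu, by simp [t.uv, t'.uv],
          by simpa [H56.Q_add, t.qv, t'.qv] using h0, (E_add t.qu t.uv t'.uv).symm⟩
    · exact .inr ((or4_of_comm nd t t' s e).pr t t')
  · rcases n with n | n
    · obtain ⟨b, h0, -⟩ := k.p3 0 0 0
      exact ⟨b, by simp [h0], by rw [n]; rfl⟩
    · exact (k.rn _ n).1
  · obtain ⟨p, v, v', t, t', rfl, rfl⟩ | ⟨u, v, u', v', t, t', rfl, rfl, s⟩ := dich hg hh
    · have o := or4_of_pr nd t t' e
      rw [← E_add t.qu t.uv t'.uv]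
      by_cases h0 : ∃ c : F, v + v' = c • p
      · obtain ⟨c, hc⟩ := h0
        exact .inl (by rw [hc, E_smul_self c t.qu])
      · exact .inr ⟨_, _, TS.of_ne t.qu (by simp [H56.Q_add, t.qv, t'.qv, o.vv])
          (by simp [t.uv, t'.uv]) t.ne (fun c hc => h0 ⟨c, hc⟩), rfl⟩
    · obtain ⟨a, h0, ha⟩ := n
      have o := or4_of_pr nd t t' e
      obtain ⟨h1, h2, h3, h4⟩ := o.fix t t' s ha
      exact absurd (sing8 nd h8 t t' s o h1 h2 h3 h4) h0
  · obtain ⟨u, a, h0, hu, h1, h2, rfl⟩ := hh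
    obtain ⟨-, s, hs⟩ := (k.cE g u a h0 hu h1 h2).1 e
    by_cases h3 : s = 0
    · exact ⟨a, h2, by simpa [h3] using hs, E_fix h1 (polar_self2 a)⟩
    · obtain ⟨x, y, t, rfl⟩ := hg
      rw [app t, add_right_inj] at hs
      obtain ⟨w, -, hw⟩ := reb t (p := u) (s := s⁻¹ * polar Q y a) (c := s⁻¹ * polar Q x a) (by
        rw [mul_smul, mul_smul, ← smul_add, hs, smul_smul, inv_mul_cancel₀ h3, one_smul]) h0
      obtain ⟨b, k0, k1, k2, k3⟩ := k.p3 u w a
      exact ⟨b, by simp [k0], hw ▸ E_fix k1 k2, E_fix k1 k3⟩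

omit nd in
theorem jobKR : JobKR := fun _ _ _ _ _ _ _ _ _ p _ k => kr p.nd k

end H86.O6.JKR
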