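import Cfsg.Agent.H86.O6.Def

/-! STD-SP (row S3129), orthogonal model: slot `L1` (linearity, `ME`). -/

set_option autoImplicit false
set_option linter.unusedSectionVars false

namespace H86.O6.JL1

open H64.SG (O2 Syl Cz Cs Ns cjs Is2 Inv2 IsO2 fx mem_fx)
open H64.YE (ME tw)
open H67.SP (Lr Sr)
open H67.UA (XU)
open H59.SO (Om Au E gam Lin TS Root Ru Xl Fr Par Par0 FA2 fl)
open H48.SOI (Ch)
open H86.O6
open H56 H58 QuadraticMap Module Subgroup

/-- An automorphism that preserves the image of an injective map induces one of the source. -/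
theorem exists_ind {X Y : Type*} [Group X] [Group Y] {ι : X →* Y} (hi : Function.Injective ι)
    (α : MulAut Y) (h : ∀ y, α y ∈ ι.range ↔ y ∈ ι.range) :
    ∃ ψ : MulAut X, ∀ u, ι (ψ u) = α (ι u) := by
  have e : ι.range.map (α : Y →* Y) = ι.range := by
    ext y
    obtain ⟨y, rfl⟩ := α.surjective y
    rw [h]
    exact mem_map_iff_mem (f := (α : Y →* Y)) α.injective
  refine ⟨(MonoidHom.ofInjective hi).trans ((α.subgroupMap ι.range).trans
    ((MulEquiv.subgroupCongr e).trans (MonoidHom.ofInjective hi).symm)), fun u => ?_⟩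
  simp only [MulEquiv.trans_apply]
  rw [MonoidHom.apply_ofInjective_symm]
  rfl

variable {F V : Type} [Field F] [CharP F 2] [Finite F] [AddCommGroup V] [Module F V]
  [FiniteDimensional F V] {Q : QuadraticForm F V}

theorem ch_gam {k : O Q} {a : V} (h : Ch k a) {T : Gam Q} (hc : (T.c : F) = 1)
    (e : ∀ x, T (k x) = k (T x)) : Ch k (T a) := fun x => by
  obtain ⟨x, rfl⟩ := T.surjective x
  rw [← e, T.map_polar, T.map_polar, h x, hc, one_mul, one_mul, map_pow]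

theorem gam_fix {k : O Q} {a : V} (nd : Q.polarBilin.Nondegenerate) (h : Ch k a) {T : Gam Q}
    (hc : (T.c : F) = 1) (e : T * Gam.ofO Q k = Gam.ofO Q k * T) : T a = a :=
  Ch.uniq nd (ch_gam h hc fun x => congrArg (fun S : Gam Q => S x) e) h

theorem refl_self {a : V} (ha : Q a ≠ 0) : refl Q a a = a := by
  rw [refl_apply_self ha, H59.SO.neg2 F]

variable {n : ℕ} [StarRing F] [TrivialStar F] {ι : XU n F →* Om Q} {r : Fr Q} {w : V}

theorem fx_ta (d : Dc ι r w) (k : KK r) (y : Om Q) : ta Q w y = y ↔ y ∈ ι.range := by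
  rw [k.fx w y (by rw [d.qw]; exact one_ne_zero), d.rng]

/-- A linear conjugate of `τ` is the conjugation by a reflection. -/
theorem eq_tw (xs : XS n F) (d : Dc ι r w) (k : KK r) {α : Au Q}
    (h : Lin Q (α * ta Q w * α⁻¹)) : ∃ g, α * ta Q w * α⁻¹ = tw (ta Q w) g := by
  have p : Par0 Q := d.par.toPar0
  have w0 : Q w ≠ 0 := by rw [d.qw]; exact one_ne_zero
  obtain ⟨T, hc, hT⟩ := h.exists_one
  have hσ : T.σ = 1 := by
    rw [← d.fa.flg, ← hT, map_mul, map_mul, ta, d.fa.flg, Gam.ofO_σ, mul_one, map_inv,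
      mul_inv_cancel]
  obtain ⟨j, rfl⟩ := k.iso T hc hσ
  have j2 : j * j = 1 := by
    apply Gam.ofO_injective
    apply k.inj _ _ (Gam.ofO_c _) (Gam.ofO_c _)
    rw [map_mul, map_mul, ← hT, map_one, map_one]
    calc α * ta Q w * α⁻¹ * (α * ta Q w * α⁻¹) = α * (ta Q w * ta Q w) * α⁻¹ := by group
      _ = 1 := by rw [k.t2, mul_one, mul_inv_cancel]
  have jn : j ∉ EG Q := fun hj => by
    have e := H59.SO.gam_ofO (Q := Q) ⟨j, hj⟩
    refine k.out w w0 (α⁻¹ ⟨j, hj⟩) ?_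
    have e2 : ta Q w = α⁻¹ * MulAut.conj (⟨j, hj⟩ : Om Q) * α := by
      rw [← e, ← hT]; group
    rw [e2]
    ext1 y
    simp
  obtain ⟨x, hx⟩ := H48.SOI.exists_ch p.nd j2
  have x1 : Q x = 1 := (hx.or p.nd).resolve_left fun h0 => jn ((hx.mem p j2).2 h0)
  have x0 : Q x ≠ 0 := by rw [x1]; exact one_ne_zero
  obtain ⟨g, hg⟩ := k.w1 w x d.qw x1
  have tg : tw (ta Q w) g = ta Q x := by rw [k.tw, hg]
  have le : fx (α * ta Q w * α⁻¹) ≤ fx (ta Q x) := fun y hy => by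
    rw [mem_fx, k.fx x y x0]
    rw [mem_fx, hT, H59.SO.gam_fix_iff] at hy
    exact gam_fix (T := Gam.ofO Q y.1) p.nd hx (Gam.ofO_c _)
      (Gam.ext_of (fun v => (hy v).symm) rfl (by simp [Gam.mul_c]))
  have eq : fx (α * ta Q w * α⁻¹) = fx (ta Q x) := by
    refine eq_of_le_of_card_ge le (le_of_eq ?_)
    rw [← tg, tw, ← Nat.card_congr (H48.SOH.fxE _ _).toEquiv,
      ← Nat.card_congr (H48.SOH.fxE _ _).toEquiv]
  have jm : j * refl Q x ∈ EG Q := p.mul_mem jn (p.refl_notMem x0)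
  set y : Om Q := ⟨j * refl Q x, jm⟩ with hy
  have cen : ∀ z : Om Q, z.1 x = x → y * z = z * y := fun z hz => by
    have h1 : ta Q x z = z := (k.fx x z x0).2 hz
    have h2 : z ∈ fx (α * ta Q w * α⁻¹) := eq ▸ h1
    rw [mem_fx, hT, H59.SO.gam_fix_iff] at h2
    rw [ta, H59.SO.gam_fix_iff] at h1
    refine H59.SO.Om.ext fun v => ?_
    change j (refl Q x (z.1 v)) = z.1 (j (refl Q x v))
    have a1 : refl Q x (z.1 v) = z.1 (refl Q x v) := h1 v
    have a2 : j (z.1 (refl Q x v)) = z.1 (j (refl Q x v)) := h2 _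
    rw [a1, a2]
  have yx : y.1 x = x := by
    change j (refl Q x x) = x
    rw [refl_self x0, hx.fix p.nd j2]
  obtain ⟨z, hz⟩ : g⁻¹ * y * g ∈ ι.range := (d.rng _).2 (by
    change g.1⁻¹ (y.1 (g.1 w)) = w
    rw [hg, yx, ← hg, O.inv_apply_apply])
  have zc : ∀ u, z * u = u * z := fun u => by
    apply d.inj
    have hu : (ι u).1 w = w := (d.rng _).1 ⟨u, rfl⟩
    have := cen (g * ι u * g⁻¹) (by
      change g.1 ((ι u).1 (g.1⁻¹ x)) = x
      rw [← hg, O.inv_apply_apply, hu])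
    rw [map_mul, map_mul, hz]
    calc g⁻¹ * y * g * ι u = g⁻¹ * (y * (g * ι u * g⁻¹)) * g := by group
      _ = _ := by rw [this]; group
  have z1 : z = 1 := xs.cen z (MulEquiv.ext fun u => by
    rw [MulAut.conj_apply, zc, mul_inv_cancel_right]; rfl)
  have y1 : y = 1 := by
    rw [z1, map_one] at hz
    calc y = g * (g⁻¹ * y * g) * g⁻¹ := by group
      _ = 1 := by rw [← hz]; group
  have jx : j = refl Q x := by
    have : j * refl Q x = 1 := congrArg Subtype.val y1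
    rw [← refl_inv]; exact eq_inv_of_mul_eq_one_left this
  exact ⟨g, by rw [tg, hT, jx, ta]⟩

theorem l1 (xs : XS n F) (d : Dc ι r w) (k : KK r) : L1 (Q := Q) w := fun α h => by
  obtain ⟨g, hg⟩ := eq_tw xs d k h
  have w0 : Q w ≠ 0 := by rw [d.qw]; exact one_ne_zero
  set β := (MulAut.conj g)⁻¹ * α with hβ
  have cm : β * ta Q w = ta Q w * β := by
    rw [tw] at hg
    calc β * ta Q w = (MulAut.conj g)⁻¹ * (α * ta Q w * α⁻¹) * α := by rw [hβ]; group
      _ = _ := by rw [hg, hβ]; group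
  obtain ⟨ψ, hψ⟩ := exists_ind d.inj β fun y => by
    rw [← fx_ta d k, ← fx_ta d k, ← MulAut.mul_apply, ← cm, MulAut.mul_apply, β.injective.eq_iff]
  obtain ⟨u, hu⟩ : E Q (r.e 0) w ∈ ι.range :=
    (d.rng _).2 (H59.SO.E_fix (d.we 0) (H59.SO.polar_self2 w))
  have lu : Lr u := (d.lr u).2 ⟨_, r.ne 0, r.qe 0, d.we 0, hu⟩
  obtain ⟨x, -, -, -, hx⟩ := (d.lr _).1 (xs.cls ψ u lu)
  have lb : Lin Q β := d.fa.lin β _ w (r.ne 0) (r.qe 0) (d.we 0) w0 ⟨x, w, by rw [← hu, ← hψ, hx]⟩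
  have : α = MulAut.conj g * β := by rw [hβ]; group
  rw [this]
  exact mul_mem (H59.SO.lin_conj g) lb

theorem mz (d : Dc ι r w) (k : KK r) (l : L1 (Q := Q) w) {z : XU n F} (hz : Sr z) (α : Au Q)
    (h : α * (MulAut.conj (ι z) * ta Q w) = MulAut.conj (ι z) * ta Q w * α) :
    α * ta Q w = ta Q w * α := by
  have p : Par0 Q := d.par.toPar0
  have e : MulAut.conj (ι z) * ta Q w = gam Q (Gam.ofO Q ((ι z).1 * refl Q w)) := by
    rw [map_mul, map_mul, H59.SO.gam_ofO, ta]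
  have c : α * MulAut.conj (ι z) = MulAut.conj (α (ι z)) * α := by
    ext1 y
    simp
  have la : Lin Q α := l α (by
    have : α * ta Q w * α⁻¹ = (MulAut.conj (α (ι z)))⁻¹ * (MulAut.conj (ι z) * ta Q w) := by
      calc α * ta Q w * α⁻¹ =
            (MulAut.conj (α (ι z)))⁻¹ * (MulAut.conj (α (ι z)) * α * ta Q w) * α⁻¹ := by group
        _ = _ := by rw [← c, mul_assoc α, h]; group
    rw [this, e]
    exact mul_mem (inv_mem (H59.SO.lin_conj _)) ⟨_, rfl⟩)
  obtain ⟨T, hc, rfl⟩ := la.exists_one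
  have ch : Ch ((ι z).1 * refl Q w) w := by
    have c0 : Ch (ι z).1 0 := fun x => by
      rw [← H48.SOI.Q_nv, polar_zero_right, H48.SOI.nv, (k.rn _ ((d.sr z).1 hz)).2 x]
      simp
    simpa using c0.refl ((d.rng _).1 ⟨z, rfl⟩) d.qw
  rw [e, ← map_mul, ← map_mul] at h
  have tw := gam_fix p.nd ch hc (k.inj _ _ (by simp [Gam.mul_c, hc]) (by simp [Gam.mul_c, hc]) h)
  have := k.gm w T
  rw [tw] at this
  exact mul_inv_eq_iff_eq_mul.1 this

theorem jobL1 : H86.O6.JobL1 := by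
  intro n F _ _ _ _ _ _ b c o V _ _ _ Q ι r w d k xs
  exact ⟨l1 xs d k, fun z hz α h => mz d k (l1 xs d k) hz α h, xs.zp⟩

end H86.O6.JL1
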