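import Cfsg.Agent.H86.O6.Def
import Cfsg.Agent.H46.SOG1

/-! STD-SP (row S3129), orthogonal model, slot `MC`.  Notes: `blueprints/STDSP_O.md`. -/

set_option autoImplicit false
set_option linter.unusedSectionVars false

namespace H86.O6.JMC

open H64.SG (O2 Syl Cz Cs Ns cjs Is2 Inv2 IsO2 fx mem_Cs)
open H64.YE (MC LS Good Co)
open H67.UA (XU)
open H67.SA (St cm cI mem_cI mem_St_iff_map)
open H59.SO H46.SOG H86.O6
open H56 H58 QuadraticMap Module Subgroup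

section Gen

variable {G : Type} [Group G]

theorem good_of {τ : MulAut G} {U R A : Subgroup G} (cen : ∀ g : G, MulAut.conj g = 1 → g = 1)
    (h1 : R ≤ U) (h2 : U ≤ Ns R) (h3 : τ ∈ St R) (hA : A ≤ R) (sq : ∀ a ∈ A, a * a = 1)
    (ct : ∀ β : MulAut G, (∀ u ∈ R, β u = u) → β ∈ cI A) : Good τ U R := by
  refine ⟨h1, h2, h3, fun g hg => ?_, fun α hα ho => ?_⟩
  · obtain ⟨a, ha, e⟩ := mem_cI.1 (ct (MulAut.conj g) fun u hu => by
      rw [MulAut.conj_apply, mul_inv_eq_iff_eq_mul]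
      exact (mem_centralizer_iff.1 hg.1 u hu).symm)
    have : g * a⁻¹ = 1 := cen _ (by rw [map_mul, map_inv, e, mul_inv_cancel])
    rw [mul_inv_eq_one.1 this]
    exact hA ha
  · obtain ⟨a, ha, e⟩ := mem_cI.1 (ct α hα)
    have h4 : α ^ 2 = 1 := by rw [e, pow_two, ← map_mul, sq a ha, map_one]
    have h5 := orderOf_dvd_of_pow_eq_one h4
    rcases (Nat.dvd_prime Nat.prime_two).1 h5 with k | k
    · exact orderOf_eq_one_iff.1 k
    · rw [k] at ho; exact absurd ho (by decide)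

end Gen

variable {n : ℕ} {F V : Type} [Field F] [StarRing F] [TrivialStar F] [CharP F 2] [Finite F]
  [AddCommGroup V] [Module F V] [FiniteDimensional F V] {Q : QuadraticForm F V}
  {ι : XU n F →* Om Q} {r : Fr Q} {w : V} (d : Dc ι r w)

include d

theorem ta_e (i : Fin 3) : Gam.ofO Q (refl Q w) (r.e i) = r.e i :=
  refl_apply_of_orth (by rw [polar_comm]; exact d.we i)

theorem goodR : Good (ta Q w) r.U r.R :=
  good_of d.fa.cen d.fg.le.1 d.fg.nr.1 (mem_St_iff_map.2 (by rw [ta, map_Ru, ta_e d])) le_rfl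
    d.fg.ab.2.2.1 d.fb.ctR

theorem goodQ : Good (ta Q w) r.U r.QQ :=
  good_of d.fa.cen d.fg.le.2.1 d.fg.nr.2.1
    (mem_St_iff_map.2 (by rw [ta, map_Ql, ta_e d, ta_e d])) r.ts.Xl_le_Ql
    (fun a ha => d.fg.ab.2.2.1 a (Xl_le_Ru _ _ ha)) d.fb.ctQ

variable (k : KK r) (kd : KD ι r w)
include k kd

theorem stab_le {g : Om Q} (h : g.1 (r.e 0) = r.e 0) : g ∈ H64.YE.EG ι LS (Ns r.R) :=
  kd.e1 (k.g1 g h)

omit k in
theorem E_mem {i j : Fin 3} (h : i ≠ j) (c : F) (hp : E Q (r.e i) (c • r.f j) ∈ r.P0) :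
    E Q (r.e i) (c • r.f j) ∈ H64.YE.EG ι LS (Ns r.QQ) := by
  by_cases hc : c = 0
  · rw [hc, zero_smul, E_zero]; exact one_mem _
  · exact kd.er _ _ (P0_le_Ns d.par.nd r.ts hp) ((r.tsf h).root hc)
      (E_fix (d.we i) (by rw [polar_smul_left, d.wf, smul_zero]))

theorem gen {H : Subgroup (Om Q)} (h1 : H64.YE.EG ι LS (Ns r.R) ≤ H)
    (h2 : H64.YE.EG ι LS (Ns r.QQ) ≤ H) (h3 : r.U ≤ H) : H = ⊤ := by
  have h10 : (1 : Fin 3) ≠ 0 := by decide
  have hR : Ru Q (r.e 0) ≤ H := d.fg.le.1.trans h3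
  have hj := Ru_conj hR (h2 (E_mem d kd h10 1 (E10_mem r 1)))
  rw [E_ef r h10 1 0, if_pos rfl, one_smul] at hj
  have e0 : (E Q (r.f 1) w).1 (r.e 0) = r.e 0 :=
    E_fix (by rw [r.fe, if_neg h10]) (by rw [polar_comm]; exact d.we 0)
  have e1 : (E Q (r.f 1) w).1 (r.e 1) = r.e 1 + w + r.f 1 := by
    rw [E_apply (r.qf 1) (d.wf 1), r.fe, if_pos rfl, polar_comm _ w, d.we, d.qw]
    simp
  have hp := Ru_conj hj (h1 (stab_le d k kd e0))
  have q1 : Q (r.e 0 + r.e 1) = 0 := by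
    rw [QuadraticMap.map_add Q, r.qe, r.qe, r.ee]; simp
  refine top_of_Ru d.par.nd hj hp q1 (by rw [O.map_Q, q1]) ?_
  rw [map_add, e0, e1]
  simp [polar_add_left, polar_add_right, r.ee, r.ef, d.we]

omit d k kd in
theorem jobMC : JobMC := by
  intro n F _ _ _ _ _ _ b c o V _ _ _ Q ι r w d k kd
  refine ⟨goodR d, fun g hg => mem_sup_left (stab_le d k kd (r.u0 g hg)), r.QQ, goodQ d, ?_⟩
  exact gen d k kd (le_sup_left.trans le_sup_left) (le_sup_right.trans le_sup_left) le_sup_right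

end H86.O6.JMC
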