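import Cfsg.Agent.H86.O6.Def

/-! STD-SP endgame (row S3129), orthogonal model, slot OB: the structures `OB` and `OQ`. -/

set_option autoImplicit false
set_option linter.unusedSectionVars false

namespace H86.O6.JOB

open H64.SG (Cz Cs Ns Inv2)
open H64.YE (MI OB OQ Ac tw)
open H67.UA (XU)
open H67.SA (cm cm_eq_one)
open H59.SO (Om E gam Root Fr polar_self2 add_self2 E_fix comm_E mul_E E_add_smul_self E_mem_Ql
  mem_P0_of_fix gam_ofO gam_ofO_val)
open H86.O6
open H56 H58 QuadraticMap Module Subgroup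

variable {n : ℕ} {F V : Type} [Field F] [StarRing F] [TrivialStar F] [CharP F 2] [Finite F]
  [AddCommGroup V] [Module F V] [FiniteDimensional F V] {Q : QuadraticForm F V}
  {ι : XU n F →* Om Q} {r : Fr Q} {w : V} (d : Dc ι r w) (k : KK r) (kd : KD ι r w)

include d k kd

theorem qw_ne : Q w ≠ 0 := by rw [d.qw]; exact one_ne_zero

theorem tw_one : tw (ta Q w) 1 = ta Q w := by simp [tw]

theorem ob_b1 (y : Om Q) (hy : y * y = 1) (m : ¬ MI ι y) : ¬ IsConj (r.z 1) y ∧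
    ∃ g, y * tw (ta Q w) g y = tw (ta Q w) g y * y ∧ IsConj (cc r w) (y * tw (ta Q w) g y) := by
  have nv : ¬ Nv Q y := fun h => m ((kd.mi y).2 h)
  refine ⟨fun h => nv (k.rn y ((kd.rt y).1 h)).1, 1, ?_⟩
  rw [tw_one d k kd]
  obtain ⟨h1, h2⟩ := k.alt y hy nv w
  have h3 : polar Q (y.1 w + w) w = 0 := by
    rw [polar_add_left, polar_comm, h2, polar_self2, add_zero]
  have h0 : y.1 w + w ≠ 0 := fun h => nv ⟨w, qw_ne d k kd, by
    rw [← add_left_inj w, h, add_self2 F]⟩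
  have y2 : y.1 * y.1 = 1 := congrArg Subtype.val hy
  have e1 : y * ta Q w y = E Q (y.1 w + w) w := by
    refine Subtype.ext ?_
    rw [k.rr w _ d.qw h1 h3, add_comm (y.1 w), ← add_assoc, add_self2 F, zero_add, ← conj_refl,
      inv_eq_of_mul_eq_one_right y2]
    change y.1 * (ta Q w y).1 = _
    rw [k.val]; simp only [mul_assoc]
  have ec : Ec Q (y * ta Q w y) := ⟨_, _, h0, h1, h3, qw_ne d k kd, e1⟩
  refine ⟨?_, (kd.ec _).2 ec⟩
  have s1 := (k.en _ ec).2.1.1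
  have s2 : ta Q w y * ta Q w y = 1 := by rw [← map_mul, hy, map_one]
  calc y * ta Q w y = (y * ta Q w y)⁻¹ := (inv_eq_of_mul_eq_one_right s1).symm
    _ = ta Q w y * y := by
      rw [mul_inv_rev, inv_eq_of_mul_eq_one_right s2, inv_eq_of_mul_eq_one_right hy]

theorem ob_b2 (y y' : Om Q) (hy : y * y = 1) (hy' : y' * y' = 1) (m : ¬ MI ι y) (m' : ¬ MI ι y') :
    IsConj y y' ∨ IsConj y (ta Q w y') := by
  obtain ⟨j, rfl⟩ := k.cj y y' hy hy' (fun h => m ((kd.mi y).2 h)) fun h => m' ((kd.mi y').2 h)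
  by_cases hj : j ∈ EG Q
  · exact Or.inl (isConj_iff.2 ⟨⟨j, hj⟩, Subtype.ext (gam_ofO_val j y).symm⟩)
  · refine Or.inr (isConj_iff.2 ⟨⟨refl Q w * j, d.par.toPar0.mul_mem
      (d.par.toPar0.refl_notMem (qw_ne d k kd)) hj⟩, Subtype.ext ?_⟩)
    rw [k.val, gam_ofO_val]
    change refl Q w * j * y.1 * (refl Q w * j)⁻¹ = _
    rw [mul_inv_rev, refl_inv]; simp only [mul_assoc]

theorem ob : OB ι (ta Q w) (r.z 1) (cc r w) where
  inv := (k.en _ kd.cE).2.1
  tc := (k.fx w _ (qw_ne d k kd)).2 (E_fix (d.we 0) (by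
    rw [polar_add_left, polar_self2, d.we 1, add_zero]))
  ncr h := (k.en _ kd.cE).1 ((kd.rt _).1 h)
  b1 := ob_b1 d k kd
  b2 := ob_b2 d k kd
  b3 r' c' h1 h2 h3 h4 := kd.tf2 _ _
    (k.rc r' c' ((kd.rt _).1 h1) (k.ac _ _ kd.cE h2 ((kd.mi _).1 h3)) h4)

/-- An involution of type `c₂` that fixes `e₀`, `e₁` and commutes with `u`. -/
theorem oq_of {u : Om Q} {x a : V} (h0 : x ≠ 0) (h1 : Q x = 0) (h2 : polar Q x a = 0) (h3 : Q a ≠ 0)
    (x0 : polar Q x (r.e 0) = 0) (x1 : polar Q x (r.e 1) = 0) (a0 : polar Q a (r.e 0) = 0)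
    (a1 : polar Q a (r.e 1) = 0) (c : u * E Q x a = E Q x a * u) :
    ∃ g, g * cc r w * g⁻¹ ∈ Cs r.Z ∧ cm (g * cc r w * g⁻¹) u ∈ r.Z := by
  obtain ⟨g, hg⟩ := isConj_iff.1 ((kd.ec _).2 ⟨x, a, h0, h1, h2, h3, rfl⟩)
  refine ⟨g, ?_⟩
  rw [hg, cm_eq_one.2 c.symm]
  exact ⟨mem_P0_of_fix (E_fix x0 a0) (E_fix x1 a1), one_mem _⟩

theorem oq : OQ r.U r.Z r.QQ (cc r w) where
  ex := ⟨1, by
    rw [one_mul, inv_one, mul_one]
    exact (E_mem_Ql (by rw [polar_add_right, d.we 0, r.ee, add_zero])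
      (by rw [polar_add_right, d.we 1, r.ee, add_zero])).1⟩
  fx u hu h2 := by
    have w0 : polar Q w (r.e 0) = 0 := by rw [polar_comm]; exact d.we 0
    have w1 : polar Q w (r.e 1) = 0 := by rw [polar_comm]; exact d.we 1
    have u0 := r.u0 u hu
    obtain ⟨s, u1⟩ := r.u1 u hu
    have v0 : polar Q (u.1 w) (r.e 0) = 0 := by rw [← u0, O.map_polar, w0]
    have v1 : polar Q (u.1 w) (r.e 1) = 0 := by
      have := O.map_polar u.1 w (r.e 1)
      rwa [u1, polar_add_right, polar_smul_right, v0, smul_zero, add_zero, w1] at this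
    have x0 : polar Q (u.1 w + w) (r.e 0) = 0 := by rw [polar_add_left, v0, w0, add_zero]
    have x1 : polar Q (u.1 w + w) (r.e 1) = 0 := by rw [polar_add_left, v1, w1, add_zero]
    have uu : u.1 (u.1 w) = w := by
      obtain ⟨c, hc⟩ := r.mem_Z.1 h2
      change (u * u).1 w = w
      rw [hc]
      exact E_fix (d.we 0) (by rw [polar_smul_left, d.we 1, smul_zero])
    have ux : u.1 (u.1 w + w) = u.1 w + w := by rw [map_add, uu, add_comm]
    by_cases hq : Q (u.1 w + w) = 0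
    · by_cases h0 : u.1 w + w = 0
      · have uw : u.1 w = w := by rw [← add_left_inj w, h0, add_self2 F]
        exact oq_of d k kd (r.ne 0) (r.qe 0) (d.we 0) (qw_ne d k kd) (r.ee 0 0) (r.ee 0 1) w0 w1
          (comm_E u0 uw)
      · have hp : polar Q (u.1 w + w) w = 0 := by
          have := hq
          rw [H56.Q_add, O.map_Q, CharTwo.add_self_eq_zero, zero_add] at this
          rw [polar_add_left, this, polar_self2, add_zero]
        refine oq_of d k kd h0 hq hp (qw_ne d k kd) x0 x1 w0 w1 ?_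
        rw [mul_E, ux, ← E_add_smul_self 1 hq hp, one_smul, add_comm (u.1 w) w, ← add_assoc,
          add_self2 F, zero_add]
    · exact oq_of d k kd (r.ne 0) (r.qe 0) (by rw [polar_comm]; exact x0) hq (r.ee 0 0) (r.ee 0 1)
        x0 x1 (comm_E u0 ux)

omit d k kd in
theorem jobOB : JobOB := by
  intro n F _ _ _ _ _ _ b c o V _ _ _ Q ι r w d k kd
  exact ⟨ob d k kd, oq d k kd⟩

end H86.O6.JOB
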