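import Cfsg.Agent.H86.O6.Def

/-! STD-SP endgame, orthogonal model: `R₀` and `R₁` (slot OC). -/

set_option autoImplicit false
set_option linter.unusedSectionVars false

namespace H86.O6

open H64.SG (Cz Cs Ns cjs mem_Cz)
open H64.YE (OC LS Co)
open H67.UA (XU)
open H67.SA (St mem_St_of_finite mem_cI mem_cjs)
open H59.SO
open H56 H58 QuadraticMap Module Subgroup

variable {n : ℕ} {F V : Type} [Field F] [StarRing F] [TrivialStar F] [CharP F 2] [Finite F]
  [AddCommGroup V] [Module F V] [FiniteDimensional F V] {Q : QuadraticForm F V}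
  {ι : XU n F →* Om Q} {r : Fr Q} {w e a b x : V} {T : Gam Q}

theorem mem_R0 (he : Q e = 0) {g : Om Q} :
    g ∈ R0 Q e a ↔ ∃ x, polar Q e x = 0 ∧ polar Q a x = 0 ∧ g = E Q e x := by
  refine ⟨fun h => closure_induction (fun _ h => h) ⟨0, by simp⟩ ?_ ?_ h, fun h => subset_closure h⟩
  · rintro _ _ _ _ ⟨x, h1, h2, rfl⟩ ⟨y, h3, h4, rfl⟩
    exact ⟨x + y, by simp [h1, h3], by simp [h2, h4], (E_add he h1 h3).symm⟩
  · rintro _ _ ⟨x, h1, h2, rfl⟩
    exact ⟨x, h1, h2, E_inv ..⟩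

theorem E_mem_R0 (h1 : polar Q e x = 0) (h2 : polar Q a x = 0) : E Q e x ∈ R0 Q e a :=
  subset_closure ⟨x, h1, h2, rfl⟩

theorem cjs_R0 (he : Q e = 0) (g : Om Q) : cjs g (R0 Q e a) = R0 Q (g.1 e) (g.1 a) := by
  ext y
  rw [mem_cjs, mem_R0 he, mem_R0 (by simp [he])]
  constructor
  · rintro ⟨x, h1, h2, h⟩
    exact ⟨g.1 x, by simp [h1], by simp [h2], by rw [← E_conj, ← h]; group⟩
  · rintro ⟨x, h1, h2, rfl⟩
    obtain ⟨x, rfl⟩ : ∃ z, g.1 z = x := ⟨g.1⁻¹ x, by simp⟩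
    exact ⟨x, by simpa using h1, by simpa using h2, by rw [← E_conj]; group⟩

theorem pz (hc : (T.c : F) = 1) (hs : T.σ = 1) (he : T e = e) {s : F} (hb : T b = b + s • e)
    (ha : polar Q e a = 0) : polar Q b (T a + a) = 0 := by
  have h1 := T.map_polar e a
  have h2 := T.map_polar b a
  rw [he, ha, map_zero, mul_zero] at h1
  rw [hb, hc, hs, polar_add_left, polar_smul_left, h1] at h2
  rw [polar_add_right, show polar Q b (T a) = polar Q b a by simpa using h2,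
    CharTwo.add_self_eq_zero]

namespace Dc

variable (d : Dc ι r w)
include d

theorem ew : polar Q (r.e 0) (w + r.e 1) = 0 := by simp [d.we, r.ee]
theorem e1w : polar Q (r.e 1) (w + r.e 1) = 0 := by simp [d.we, r.ee]
theorem we' (i : Fin 3) : polar Q w (r.e i) = 0 := by rw [polar_comm, d.we]
theorem wf' (i : Fin 3) : polar Q w (r.f i) = 0 := by rw [polar_comm, d.wf]
theorem qw' : Q (w + r.e 1) = 1 := by simp [H56.Q_add, d.qw, r.qe, d.we']
theorem ww : polar Q w (w + r.e 1) = 0 := by rw [polar_add_right, polar_self2, d.we', add_zero]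
theorem ww' : polar Q (w + r.e 1) w = 0 := by rw [polar_comm, d.ww]

theorem lin_c (k : KK r) {α : Au Q} (h : α (cc r w) = cc r w) : ∃ T : Gam Q, (T.c : F) = 1 ∧
    α = gam Q T ∧ T (r.e 0) = r.e 0 ∧ ∃ s : F, T (w + r.e 1) = w + r.e 1 + s • r.e 0 := by
  obtain ⟨T, h1, rfl⟩ := (d.fa.lin α _ _ (r.ne 0) (r.qe 0) d.ew (d.qw' ▸ one_ne_zero)
    ⟨_, _, h⟩).exists_one
  exact ⟨T, h1, rfl, k.cG T _ _ h1 (r.ne 0) (r.qe 0) d.ew d.qw' h⟩

theorem fix_mod (hc : (T.c : F) = 1) (he : T (r.e 0) = r.e 0) (hx : polar Q (r.e 0) x = 0)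
    (h : gam Q T (E Q (r.e 0) x) = E Q (r.e 0) x) : ∃ s : F, T x = x + s • r.e 0 := by
  rw [gam_E_one hc, he] at h
  exact (E_inj d.par.nd (r.ne 0) (r.qe 0) (by rw [← he, T.polar_apply_eq_zero, hx]) hx).1 h

omit d in
theorem sig (h : ∀ s : F, ∃ t : F, T (s • r.e 2) = s • r.e 2 + t • r.e 0) : T.σ = 1 :=
  RingEquiv.ext fun s => by
    obtain ⟨t, h1⟩ := h s
    obtain ⟨t', h2⟩ := h 1
    rw [one_smul] at h2
    rw [T.map_smul, h2] at h1
    simpa [r.fe] using congrArg (polar Q (r.f 2)) h1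

theorem e2R (s : F) : E Q (r.e 0) (s • r.e 2) ∈ R0 Q (r.e 0) (w + r.e 1) :=
  E_mem_R0 (by simp [r.ee]) (by simp [r.ee, d.we'])

theorem cR : cc r w ∈ R0 Q (r.e 0) (w + r.e 1) := E_mem_R0 d.ew (polar_self2 _)

theorem ind (hx : x ∉ Submodule.span F {r.e 0, w + r.e 1}) :
    LinearIndependent F ![x, r.e 0, w + r.e 1] :=
  linearIndependent_finCons.2 ⟨ind_of_ne (r.ne 0) fun c hc => by
    simpa [hc, H56.Q_smul, r.qe] using d.qw', by
      simpa [Matrix.range_cons, Set.pair_comm] using hx⟩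

theorem gr (k : KK r) (kd : KD ι r w) :
    R0 Q (r.e 0) (w + r.e 1) ≤ H64.YE.EG ι LS (Cz (cc r w)) := by
  have m : ∀ x, E Q (r.e 0) x ∈ Cz (cc r w) := fun x => mem_Cz.2 (E_comm ..)
  have h1 : ∀ s : F, E Q (r.e 0) (s • (w + r.e 1)) ∈ H64.YE.EG ι LS (Cz (cc r w)) := fun s => by
    rw [smul_add, E_add (r.qe 0) (by simp [d.we]) (by simp [r.ee])]
    refine mul_mem (kd.ee _ 1 (one_mem _) _ s (r.qe 0) (d.we 0) (m _)) ?_
    by_cases hs : s = 0
    · simp [hs]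
    · exact kd.er _ _ (m _) (r.z_root hs) (E_fix (d.we 0) (by simp [d.we]))
  have h2 : ∀ x, polar Q (r.e 0) x = 0 → polar Q (w + r.e 1) x = 0 → Q x ≠ 0 →
      x ∉ Submodule.span F {r.e 0, w + r.e 1} →
      E Q (r.e 0) x ∈ H64.YE.EG ι LS (Cz (cc r w)) := fun x x1 x2 x3 x4 => by
    obtain ⟨s, s0, hs⟩ := k.nm x x3
    obtain ⟨g, hg⟩ := H91.SO.witt3 d.par.toPar0 (by simp) ![w, r.e 0, w + r.e 1]
      ![s • x, r.e 0, w + r.e 1] (d.ind fun h => by
        obtain ⟨a, b, h⟩ := Submodule.mem_span_pair.1 h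
        have k0 := congrArg (polar Q (r.f 0)) h
        have k1 := congrArg (polar Q (r.f 1)) h
        simp [r.fe, d.wf] at k0 k1
        rw [k0, k1] at h
        have := d.qw
        rw [← h] at this
        simp at this)
      (d.ind fun h => x4 ((Submodule.smul_mem_iff _ s0).1 h))
      (by simp [Fin.forall_fin_succ, hs, d.qw]) (by
        simp only [Fin.forall_fin_succ]
        simp [x1, x2, polar_comm Q x, d.we, d.we', d.ww, d.ww', -polar_add_left, -polar_add_right])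
    have g0 : g.1 w = s • x := hg 0
    have := kd.ee _ g (mem_Cz.2 (comm_E (hg 1) (hg 2)).symm) (r.e 0) s⁻¹ (r.qe 0)
      (by simp [g0, x1]) (m _)
    rwa [g0, inv_smul_smul₀ s0] at this
  intro g hg
  obtain ⟨x, x1, x2, rfl⟩ := (mem_R0 (r.qe 0)).1 hg
  by_cases h : x ∈ Submodule.span F {r.e 0, w + r.e 1}
  · obtain ⟨a, b, rfl⟩ := Submodule.mem_span_pair.1 h
    rw [add_comm, E_add_smul_self a (r.qe 0) (by rw [polar_smul_right, d.ew, smul_zero])]
    exact h1 b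
  by_cases hq : Q x = 0
  · have e1 : x = x + (w + r.e 1) + (1 : F) • (w + r.e 1) := by
      rw [one_smul, add_assoc, add_self2 F, add_zero]
    have e2 : polar Q (r.e 0) (x + (w + r.e 1)) = 0 := by rw [polar_add_right, x1, d.ew, add_zero]
    rw [e1, E_add (r.qe 0) e2 (by rw [one_smul, d.ew])]
    refine mul_mem (h2 _ e2 (by rw [polar_add_right, x2, polar_self2, add_zero]) ?_ fun k => h ?_)
      (h1 1)
    · rw [H56.Q_add, hq, d.qw', polar_comm, x2]; simp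
    · exact (add_mem_cancel_right (Submodule.subset_span (by simp))).1 k
  · exact h2 x x1 x2 hq h

theorem co (k : KK r) : Co (R0 Q (r.e 0) (w + r.e 1) ⊓ R0 Q (r.e 0) w) := fun α h ho => by
  obtain ⟨T, hc, rfl, he, s, hw⟩ := d.lin_c k (h _ ⟨d.cR, E_mem_R0 d.ew d.ww⟩)
  have fx : ∀ x, polar Q (r.e 0) x = 0 → polar Q (w + r.e 1) x = 0 → polar Q w x = 0 →
      ∃ s : F, T x = x + s • r.e 0 := fun x x1 x2 x3 =>
    d.fix_mod hc he x1 (h _ ⟨E_mem_R0 x1 x2, E_mem_R0 x1 x3⟩)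
  have hs : T.σ = 1 := sig fun s => fx _ (by simp [r.ee]) (by simp [r.ee, d.we']) (by simp [d.we'])
  obtain ⟨s', hw'⟩ := fx w (d.we 0) d.ww' (polar_self2 w)
  obtain ⟨z, hz, e1⟩ := mem_cI.1 (d.fb.ctR (gam Q T * gam Q T) fun u hu => by
    obtain ⟨a, ha, rfl⟩ := (mem_Ru (r.qe 0)).1 hu
    obtain ⟨t, ht⟩ := fx _ (pz (s := 0) hc hs he (by simp [he]) ha) (pz hc hs he hw ha)
      (pz hc hs he hw' ha)
    rw [map_add, add_assoc, add_comm, add_right_inj] at ht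
    rw [MulAut.mul_apply, gam_E_one hc, gam_E_one hc, he, he, ht, E_add_smul_self t (r.qe 0) ha])
  refine H64.SG.Is2.eq_one ⟨2, ?_⟩ ho
  rw [show 2 ^ 2 = 2 * 2 from rfl, pow_mul, pow_two, pow_two, e1, ← map_mul, d.fg.ab.2.2.1 z hz,
    map_one]

end Dc

theorem jobOC : JobOC := by
  intro n F _ _ _ _ _ _ _ _ _ V _ _ _ Q ι r w d k kd ir
  have l0 : ∀ a, R0 Q (r.e 0) a ≤ r.R := fun a => (closure_le _).2 (by
    rintro _ ⟨x, -, -, rfl⟩; exact E_mem_Ru _ _)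
  refine ⟨Xl_le.2 fun s => E_mem_R0 (by rw [polar_smul_right, d.ew, smul_zero])
    (by rw [polar_smul_right, polar_self2, smul_zero]), l0 _, fun h => ?_, fun h => ?_, ir,
    fun α h => ?_, fun α _ h x hx => ?_, d.gr k kd, ?_⟩
  · obtain ⟨s, hs⟩ := (mem_Xl (r.qe 0) d.ew).1 (h (d.e2R 1))
    obtain ⟨t, ht⟩ := (E_inj d.par.nd (r.ne 0) (r.qe 0) (by simp [r.ee])
      (by rw [polar_smul_right, d.ew, smul_zero])).1 hs
    simpa [r.fe, d.wf] using congrArg (polar Q (r.f 2)) ht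
  · obtain ⟨x, x1, x2, hx⟩ := (mem_R0 (r.qe 0)).1 (h (E_mem_Ru _ (r.f 1)))
    obtain ⟨t, ht⟩ := (E_inj d.par.nd (r.ne 0) (r.qe 0) (by simp [r.ef]) x1).1 hx
    have := congrArg (polar Q (w + r.e 1)) ht
    rw [polar_add_right, x2] at this
    simp [r.ef, r.ee, d.we', d.wf'] at this
  · obtain ⟨T, hc, rfl, he, s, hw⟩ := d.lin_c k h
    refine mem_St_of_finite fun g hg => ?_
    obtain ⟨x, x1, x2, rfl⟩ := (mem_R0 (r.qe 0)).1 hg
    have h1 : polar Q (r.e 0) (T x) = 0 := by rw [← he, T.polar_apply_eq_zero, x1]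
    have h2 := T.polar_apply_eq_zero.2 x2
    rw [hw, polar_add_left, polar_smul_left, h1, smul_zero, add_zero] at h2
    rw [gam_E_one hc, he]
    exact E_mem_R0 h1 h2
  · obtain ⟨T, hc, rfl, he, s, hw⟩ := d.lin_c k (h _ d.cR)
    have hs : T.σ = 1 := Dc.sig fun s => d.fix_mod hc he (by simp [r.ee]) (h _ (d.e2R s))
    obtain ⟨a, ha, rfl⟩ := (mem_Ru (r.qe 0)).1 hx
    rw [gam_E_one hc, he, E_inv, ← E_add (r.qe 0) (by rw [← he, T.polar_apply_eq_zero, ha]) ha]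
    exact E_mem_R0 (pz (s := 0) hc hs he (by simp [he]) ha) (pz hc hs he hw ha)
  · obtain ⟨x, hx, x1⟩ := r.exists_polar d.par.toPar0 (x := w) (fun i => ⟨d.we i, d.wf i⟩)
      fun h => by simpa [h] using d.qw
    have g0 : (E Q (r.e 1) x).1 (r.e 0) = r.e 0 := E_fix (r.ee ..) (by rw [polar_comm, (hx 0).1])
    have g1 : (E Q (r.e 1) x).1 (w + r.e 1) = w := by
      rw [E_apply_orth (r.qe 1) (hx 1).1 d.e1w, polar_add_right, polar_comm, x1, polar_comm,
        (hx 1).1, add_zero, one_smul, add_assoc, add_self2 F, add_zero]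
    refine ⟨E Q (r.e 1) x, H46.SOG.ns_R r g0, ?_⟩
    rw [cjs_R0 (r.qe 0), g0, g1]
    refine ⟨E_mem_R0 d.ew d.ww, (Ru_le (r.qe 0)).2 fun a ha => ?_, d.co k⟩
    have e1 : a = a + polar Q (w + r.e 1) a • r.f 1 + polar Q (w + r.e 1) a • r.f 1 := by
      rw [add_assoc, add_self2 F, add_zero]
    have e2 : polar Q (r.e 0) (polar Q (w + r.e 1) a • r.f 1) = 0 := by simp [r.ef]
    have e3 : polar Q (w + r.e 1) (r.f 1) = 1 := by simp [r.ef, d.wf']
    rw [e1, E_add (r.qe 0) (by rw [polar_add_right, ha, e2, add_zero]) e2]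
    refine mul_mem (mem_sup_left (E_mem_R0 (by rw [polar_add_right, ha, e2, add_zero]) ?_))
      (mem_sup_right (E_mem_R0 e2 (by rw [polar_smul_right, d.wf', smul_zero])))
    rw [polar_add_right, polar_smul_right, e3, smul_eq_mul, mul_one, CharTwo.add_self_eq_zero]

end H86.O6
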