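import Cfsg.Agent.H86.O6.Def

/-! STD-SP endgame (row S3129), orthogonal model, slot `STDSP-O-OS`: the data for the strong
closure of `R = O₂(C c)`. -/

set_option autoImplicit false
set_option linter.unusedSectionVars false

namespace H86.O6.JOS

open H64.YE (MI OS Ac tw)
open H67.UA (XU)
open H59.SO (Om Au E TS Root Fr E_fix E_apply E_sq E_smul_self E_mem_Ru mem_Ru polar_self2 add_self2)
open H86.O6
open H56 QuadraticMap Module Subgroup

variable {n : ℕ} {F V : Type} [Field F] [StarRing F] [TrivialStar F] [CharP F 2] [Finite F]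
  [AddCommGroup V] [Module F V] [FiniteDimensional F V] {Q : QuadraticForm F V}
  {ι : XU n F →* Om Q} {r : Fr Q} {w : V} (d : Dc ι r w)

include d

theorem e_ne : r.e 0 ≠ 0 := fun h => by
  have := r.hyp.ef 0 0
  rw [h, polar_zero_left, if_pos rfl] at this
  exact zero_ne_one this

theorem q_w : Q (w + r.e 1) = 1 := by
  rw [Q_add, d.qw, r.hyp.qe, polar_comm, d.we, add_zero, add_zero]

theorem e_w : polar Q (r.e 0) (w + r.e 1) = 0 := by
  rw [polar_add_right, d.we, r.hyp.ee, add_zero]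

theorem f_w : polar Q (w + r.e 1) (r.f 0) = 0 := by
  rw [polar_add_left, polar_comm, d.wf, r.hyp.ef, if_neg (by decide), add_zero]

theorem c_w : (cc r w).1 (w + r.e 1) = w + r.e 1 := E_fix (e_w d) (polar_self2 _)

/-- an image of an element of `R` that commutes with `c` -/
theorem common (k : KK r) (kd : KD ι r w) {v x : Om Q} {s : F} (hs : s ≠ 0)
    (hv : v.1 (w + r.e 1) = w + r.e 1 + s • r.e 0) (hc : v * cc r w = cc r w * v) (hn : Nv Q v)
    (hx : x ∈ r.R) (ha : Ac x v) : ∃ a, Q a ≠ 0 ∧ (cc r w).1 a = a ∧ v.1 a = a := by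
  obtain ⟨a, h1, rfl⟩ := (mem_Ru (r.hyp.qe 0)).1 hx
  have se : s • r.e 0 ≠ 0 := smul_ne_zero hs (e_ne d)
  by_cases h2 : Q a = 0
  · by_cases h3 : ∀ c : F, a ≠ c • r.e 0
    · obtain ⟨β, rfl⟩ := ha
      obtain ⟨b, b1, b2, b3⟩ := k.rc _ _ (d.fa.root β _
        ⟨_, _, .of_ne (r.hyp.qe 0) h2 h1 (e_ne d) h3, rfl⟩) kd.cE hc
      exact ⟨b, b1, b3, b2⟩
    · push Not at h3
      obtain ⟨c, rfl⟩ := h3
      obtain ⟨β, rfl⟩ := ha
      rw [E_smul_self c (r.hyp.qe 0), map_one] at hv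
      exact absurd (left_eq_add.1 hv) se
  · obtain ⟨x, y, -, x1, x2, x3, rfl⟩ :=
      k.ac _ _ ⟨_, _, e_ne d, r.hyp.qe 0, h1, h2, rfl⟩ ha hn
    obtain ⟨p, q, h⟩ := k.mv x y (w + r.e 1)
    rw [hv, add_right_comm, add_self2 F, zero_add] at h
    have h4 := congrArg Q h
    rw [Q_add, Q_smul, Q_smul, Q_smul, r.hyp.qe, x1, polar_smul_left, polar_smul_right, x2] at h4
    have h5 : q = 0 := by
      have : q * q * Q y = 0 := by simpa using h4.symm
      simpa [x3] using this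
    rw [h5, zero_smul, add_zero] at h
    have h6 : p ≠ 0 := fun e => se (by rw [h, e, zero_smul])
    obtain ⟨b, b1, b2, b3, b4⟩ := k.p3 (r.e 0) y (w + r.e 1)
    refine ⟨b, by rw [b1]; exact one_ne_zero, E_fix b2 b4, E_fix ?_ b3⟩
    have := congrArg (fun z => polar Q z b) h
    simp only [polar_smul_left, b2, smul_eq_mul, mul_zero] at this
    exact (mul_eq_zero.1 this.symm).resolve_left h6

/-- the case `u w' = w' + e₀` -/
theorem one (k : KK r) {u : Om Q} (h0 : u.1 (r.e 0) = r.e 0)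
    (h1 : u.1 (w + r.e 1) = w + r.e 1 + r.e 0) : ta Q (w + r.e 1) u = u * cc r w :=
  Subtype.ext (by
    rw [k.val, Subgroup.coe_mul, k.rr _ _ (q_w d) (r.hyp.qe 0) (e_w d), ← mul_assoc,
      mul_refl u.1 (w + r.e 1 + r.e 0), map_add u.1 (w + r.e 1), h0, h1, add_assoc (w + r.e 1),
      add_self2 F, add_zero])

theorem os (k : KK r) (kd : KD ι r w) : OS ι (ta Q w) (cc r w) r.R where
  cr := E_mem_Ru _ _
  el := d.fg.ab.2.2.1
  st α h := (d.fb.c2 α _ (e_w d) (by rw [q_w d]; exact one_ne_zero) h).1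
  sr x hx := by
    obtain ⟨a, -, rfl⟩ := (mem_Ru (r.hyp.qe 0)).1 hx
    obtain ⟨b, b1, b2, b3, b4⟩ := k.p3 (r.e 0) a (w + r.e 1)
    exact kd.tf2 _ _ ⟨b, by rw [b1]; exact one_ne_zero, E_fix b2 b4, E_fix b2 b3⟩
  scr u hu hc h1 h2 := by
    have qw : Q (w + r.e 1) ≠ 0 := by rw [q_w d]; exact one_ne_zero
    obtain ⟨u0, s, u1⟩ := (k.cE u _ _ (e_ne d) (r.hyp.qe 0) (e_w d) qw).1 hc
    have fin : (∃ a, Q a ≠ 0 ∧ (cc r w).1 a = a ∧ u.1 a = a) → ∃ g, tw (ta Q w) g (cc r w) = cc r w ∧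
        (tw (ta Q w) g u = u ∨ tw (ta Q w) g u = u * cc r w) := fun h =>
      (kd.tf2 _ _ h).imp fun _ h => ⟨h.1, .inl h.2⟩
    by_cases s0 : s = 0
    · exact fin ⟨_, qw, c_w d, by rw [u1, s0, zero_smul, add_zero]⟩
    by_cases n1 : Nv Q u
    · obtain ⟨x, hx, ha⟩ := h1.resolve_left (not_not.2 ((kd.mi u).2 n1))
      exact fin (common d k kd s0 u1 hc n1 hx ha)
    by_cases n2 : Nv Q (u * cc r w)
    · obtain ⟨x, hx, ha⟩ := h2.resolve_left (not_not.2 ((kd.mi _).2 n2))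
      obtain ⟨a, a1, a2, a3⟩ := common d k kd s0
        (by rw [Subgroup.coe_mul, O.mul_apply, c_w d, u1]) (by rw [← mul_assoc, ← hc]) n2 hx ha
      rw [Subgroup.coe_mul, O.mul_apply, a2] at a3
      exact fin ⟨a, a1, a2, a3⟩
    have e1 := (k.alt u hu n1 (r.f 0)).2
    have e2 := (k.alt _ (by
      rw [mul_assoc, ← mul_assoc (cc r w), ← hc, mul_assoc, E_sq, mul_one, hu]) n2 (r.f 0)).2
    have ef : polar Q (r.f 0) (r.e 0) = 1 := by rw [polar_comm, r.hyp.ef, if_pos rfl]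
    rw [Subgroup.coe_mul, O.mul_apply, E_apply (r.hyp.qe 0) (e_w d), f_w d, q_w d, r.hyp.ef,
      if_pos rfl, zero_smul, add_zero, one_mul, one_smul, one_smul, map_add, map_add, u0, u1,
      polar_add_right, polar_add_right, polar_add_right, e1, polar_comm _ (r.f 0) (w + r.e 1), f_w d,
      polar_smul_right, ef, smul_eq_mul, mul_one, zero_add, zero_add] at e2
    rw [CharTwo.add_eq_zero.1 e2, one_smul] at u1
    obtain ⟨g, hg⟩ := kd.tf _ qw
    exact ⟨g, by rw [hg]; exact (k.fx _ _ qw).2 (c_w d), .inr (by rw [hg, one d k u0 u1])⟩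

omit d in
theorem jobOS : JobOS := fun _ _ _ _ _ _ _ _ _ _ _ _ _ _ _ _ _ _ _ d k kd => os d k kd

end H86.O6.JOS
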