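import Cfsg.Agent.H86.O6.Def
import Cfsg.Agent.H54.Y6L

/-! STD-SP endgame, orthogonal model, slot QN. -/

set_option autoImplicit false
set_option linter.unusedSectionVars false

namespace H86.O6.JQN

open H64.YE (QS NA)
open H59.SO (Om NN)
open Module Subgroup H86.O6

theorem jobQN : JobQN := by
  intro n F _ _ _ _ _ _ b c o V _ _ _ Q ι r w d k
  have fa := d.fa
  haveI : Finite V := Module.finite_of_finite F
  haveI : Finite (Om Q) := Finite.of_injective (fun g : Om Q => (g.1 : V → V)) fun _ _ h =>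
    Subtype.ext (DFunLike.coe_injective h)
  haveI := fa.simple
  have cb : center (Om Q) = ⊥ := eq_bot_iff.2 fun g hg => fa.cen g (MulEquiv.ext fun x => by
    rw [MulAut.conj_apply, ← mem_center_iff.1 hg x, mul_inv_cancel_right]; rfl)
  let e : (Om Q ⧸ center (Om Q)) ≃* Om Q :=
    (QuotientGroup.quotientMulEquivOfEq cb).trans QuotientGroup.quotientBot
  refine ⟨⟨?_, by rw [cb, card_bot]; exact odd_one, fun N hN =>
    hN.eq_bot_or_eq_top.imp_left fun h => h.le.trans bot_le, fun β => ?_,
    fun β h h2 => fa.a3 β h2 (Or.inr h)⟩, fun m => ⟨fun f => ?_⟩⟩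
  · refine (inferInstance : (commutator (Om Q)).Normal).eq_bot_or_eq_top.resolve_left fun h => ?_
    obtain ⟨a, ha⟩ := exists_ne (1 : Om Q)
    refine ha (mem_bot.1 (cb ▸ mem_center_iff.2 fun x => ?_))
    exact commutatorElement_eq_one_iff_mul_comm.1
      (mem_bot.1 (h ▸ commutator_mem_commutator (mem_top x) (mem_top a)))
  · have he : ∀ g : Om Q, e.symm g = (g : Om Q ⧸ center (Om Q)) := fun g => e.symm_apply_eq.2 rfl
    refine ⟨(e.symm.trans β).trans e, MulEquiv.ext fun a => ?_⟩
    obtain ⟨g, rfl⟩ := QuotientGroup.mk_surjective a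
    rw [H57.quotCenterAut_mk, ← he, ← he]
    simp
  · refine (H54.Y6L.na (Om Q) r.U d.lie r.syl.2.1 ?_ m).false (e.symm.trans f)
    rw [fa.card _ r.syl, NN, d.par.eight, d.par.two]
    norm_num

end H86.O6.JQN
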