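import Cfsg.Agent.H86.O6.Def

/-! STD-SP (row S3129), endgame, orthogonal model, slot `U1`. -/

set_option autoImplicit false
set_option linter.unusedSectionVars false

namespace H86.O6.JU1

open H64.SG (Cz Cs Ns cjs Is2 IsO2 mem_Cz is2_of_sq)
open H64.YE (T2)
open H59.SO H86.O6
open H46.SOG (mul_ap pol_inv top_of_Ru Ru_conj ns_of_cjs cj_mem)
open H56 H58 QuadraticMap Module Subgroup

theorem mem_T2 {G : Type*} [Group G] {A : Subgroup G} {g : G} (h : g ∈ A) (h2 : g * g = 1) :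
    g ∈ T2 A := subset_closure ⟨h, is2_of_sq h2⟩

theorem T2_le {G : Type*} [Group G] (A : Subgroup G) : T2 A ≤ A := (closure_le _).2 fun _ h => h.1

variable {F V : Type} [Field F] [Finite F] [CharP F 2] [AddCommGroup V] [Module F V]
  [FiniteDimensional F V] {Q : QuadraticForm F V} {u x : V} {g : Om Q}

/-- the stabiliser of a vector -/
def Sv (Q : QuadraticForm F V) (u : V) : Subgroup (Om Q) where
  carrier := {g | g.1 u = u}
  one_mem' := rfl
  mul_mem' := fun {a b} ha hb => by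
    change a.1 (b.1 u) = u
    rw [show b.1 u = u from hb, show a.1 u = u from ha]
  inv_mem' := fun {a} ha => by
    change a⁻¹.1 u = u
    conv_lhs => rw [← show a.1 u = u from ha, ← mul_ap, inv_mul_cancel]
    rfl

theorem Sv_le : Sv Q u ≤ Ns (Ru Q u) := fun g hg =>
  ns_of_cjs (by rw [cjs_Ru, show g.1 u = u from hg])

/-- the vectors fixed by `K` modulo `u` -/
def Md (K : Subgroup (Om Q)) (u : V) : Submodule F V where
  carrier := {x | ∀ g ∈ K, ∃ c : F, g.1 x = x + c • u}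
  zero_mem' := fun g _ => ⟨0, by simp⟩
  add_mem' := fun {a b} ha hb g hg => by
    obtain ⟨c, hc⟩ := ha g hg
    obtain ⟨d, hd⟩ := hb g hg
    exact ⟨c + d, by rw [map_add, hc, hd, add_smul]; abel⟩
  smul_mem' := fun s a ha g hg => by
    obtain ⟨c, hc⟩ := ha g hg
    exact ⟨s * c, by rw [map_smul, hc, smul_add, smul_smul]⟩

theorem Md.ap {K : Subgroup (Om Q)} {h : Om Q} (h1 : h ∈ Ns K) (h2 : h ∈ Sv Q u) (hx : x ∈ Md K u) :
    h.1 x ∈ Md K u := fun g hg => by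
  obtain ⟨c, hc⟩ := hx _ (cj_mem (inv_mem h1) hg)
  refine ⟨c, ?_⟩
  have := congrArg h.1 hc
  rwa [← mul_ap, inv_inv, ← mul_assoc, ← mul_assoc, mul_inv_cancel, one_mul, mul_ap, map_add,
    map_smul, show h.1 u = u from h2] at this

theorem Md.self {K : Subgroup (Om Q)} (h : K ≤ Sv Q u) : u ∈ Md K u := fun g hg =>
  ⟨0, by rw [zero_smul, add_zero]; exact h hg⟩

theorem pow_ap {s : F} (h : g.1 u = s • u) (k : ℕ) : (g ^ k).1 u = s ^ k • u := by
  induction k with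
  | zero => rw [pow_zero, pow_zero, one_smul]; rfl
  | succ k ih => rw [pow_succ, mul_ap, h, map_smul, ih, smul_smul, pow_succ']

variable (r : Fr Q) (p : Par0 Q)

theorem U_le : r.U ≤ Sv Q (r.e 0) := r.u0

theorem R_le : r.R ≤ Sv Q (r.e 0) := (Ru_le (r.qe 0)).2 fun _ h => E_apply_self (r.qe 0) h

include p

theorem T2_eq (ks : KS r) : T2 (Ns r.R) = Sv Q (r.e 0) := by
  refine le_antisymm ((closure_le _).2 ?_) fun g hg => ?_
  · rintro g ⟨hg, k, hk⟩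
    obtain ⟨a, ha, hq⟩ := r.exists_Q_ne p
    obtain ⟨b, hb, e⟩ := (mem_Ru (r.qe 0)).1 (cj_mem hg (E_mem_Ru (r.e 0) a))
    rw [E_conj] at e
    obtain ⟨s, s0, h1, -⟩ := E_eq_E p.nd (u := g.1 (r.e 0)) (by simpa using r.ne 0)
      (by simp [r.qe]) (by simpa using (ha 0).1) (by simpa using hq) (r.qe 0) hb e.symm
    have h2 : g.1 (r.e 0) = s⁻¹ • r.e 0 := by rw [eq_inv_smul_iff₀ s0, ← h1]
    have h3 := pow_ap h2 (2 ^ k)
    rw [hk] at h3
    have h4 : s⁻¹ ^ 2 ^ k = 1 := smul_left_injective F (r.ne 0) (h3.symm.trans (one_smul F _).symm)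
    have h5 : s⁻¹ = 1 := by
      rwa [← sub_eq_zero, ← one_pow (2 ^ k), ← sub_pow_char_pow, pow_eq_zero_iff (by positivity),
        sub_eq_zero] at h4
    change g.1 (r.e 0) = r.e 0
    rw [h2, h5, one_smul]
  · refine (closure_le (K := T2 (Ns r.R))).2 ?_ (ks.g1 g hg)
    rintro _ ⟨x, a, -, -, -, -, h1, h2, -, -, rfl⟩
    exact mem_T2 (Sv_le (E_fix (by rw [polar_comm, h1]) (by rw [polar_comm, h2]))) (E_sq _ _)

theorem o2r (ks : KS r) (hR : r.R ≤ r.U) : IsO2 r.R (T2 (Ns r.R)) := by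
  rw [T2_eq r p ks]
  refine ⟨R_le r, Sv_le, r.isP.to_le hR, fun K h1 h2 h3 g hg => ?_⟩
  have h4 := r.le_U h3 ((U_le r).trans h2)
  refine exists_eq_E p.nd (r.ne 0) (r.qe 0) (h1 hg) fun x hx => ?_
  refine sing_induction (W := LinearMap.ker (Q.polarBilin (r.e 0))) (r.isHyp 1) (r.ee 0 1)
    (show polar Q _ _ = 0 by simp [r.ef]) (p := fun x => x ∈ Md K (r.e 0)) (fun x hx hq => ?_)
    (fun _ _ _ _ => add_mem) hx g hg
  by_cases k : ∃ c : F, x = c • r.e 0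
  · obtain ⟨c, rfl⟩ := k
    exact Submodule.smul_mem _ _ (Md.self h1)
  obtain ⟨h, k1, rfl⟩ := r.ts.witt p (.of_ne (r.qe 0) hq hx (r.ne 0) fun c q => k ⟨c, q⟩)
  exact Md.ap (h2 k1) k1 fun g hg => r.u1 g (h4 hg)

theorem max (ks : KS r) (A : Subgroup (Om Q)) (h : T2 (Ns r.R) ≤ A) : A ≤ Ns r.R ∨ A = ⊤ := by
  rw [T2_eq r p ks] at h
  rw [or_iff_not_imp_left]
  intro k
  obtain ⟨g, hg, k1⟩ := SetLike.not_le_iff_exists.1 k
  have h1 := (R_le r).trans h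
  have h2 := Ru_conj h1 hg
  have hq : Q (g.1 (r.e 0)) = 0 := by simp [r.qe]
  by_cases h3 : polar Q (r.e 0) (g.1 (r.e 0)) = 0
  swap
  · exact top_of_Ru p.nd h1 h2 (r.qe 0) hq h3
  have ts : TS Q (r.e 0) (g.1 (r.e 0)) := .of_ne (r.qe 0) hq h3 (r.ne 0) fun c q => k1 (by
    refine H98.mem_normalizer_of_cj_le (show cjs g r.R ≤ r.R from ?_)
    have c0 : c ≠ 0 := fun q' => r.ne 0 (by simpa [q'] using q)
    rw [cjs_Ru]
    refine (Ru_le hq).2 fun a ha => ?_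
    rw [q] at ha ⊢
    rw [E_smul_left c (r.qe 0) (by simpa [c0] using ha)]
    exact E_mem_Ru _ _)
  obtain ⟨a, a1, a2⟩ := ts.witt p r.ts
  obtain ⟨b, b1, b2⟩ := ts.witt p (r.tsf (show (0 : Fin 3) ≠ 1 by decide))
  exact top_of_Ru p.nd (a2 ▸ Ru_conj h2 (h a1)) (b2 ▸ Ru_conj h2 (h b1)) (r.qe 1) (r.qf 1)
    (by simp [r.ef])

section C

variable {a : V} (qa : Q a = 1) (a0 : polar Q (r.e 0) a = 0) (f0 : polar Q a (r.f 0) = 0)
  (f1 : polar Q a (r.f 1) = 1)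
include f0 f1

theorem dual (h : ∀ y, polar Q (r.e 0) y = 0 → polar Q a y = 0 → polar Q x y = 0) :
    ∃ s t : F, x = s • r.e 0 + t • a := by
  refine ⟨polar Q x (r.f 0), polar Q x (r.f 1), ?_⟩
  rw [← sub_eq_zero]
  refine eq_zero_of_polar p.nd fun y => ?_
  have := h (y - polar Q (r.e 0) y • r.f 0 - polar Q a y • r.f 1) (by simp [r.ef]) (by simp [f0, f1])
  simp only [polar_sub_left, polar_add_left, polar_smul_left, polar_sub_right, polar_smul_right,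
    smul_eq_mul] at this ⊢
  linear_combination this

include qa a0

omit f0 f1 p in
/-- A `2`-subgroup fixes a singular vector modulo `e₀`. -/
theorem ex_fix {K : Subgroup (Om Q)} (h1 : K ≤ Sv Q (r.e 0)) (h2 : a ∈ Md K (r.e 0))
    (h3 : IsPGroup 2 K) : ∃ y ∈ Md K (r.e 0), TS Q (r.e 0) y ∧ polar Q a y = 0 := by
  obtain ⟨h, hh, k⟩ := (H64.SG.syl_iff.1 (r.syl_of_le (U_le r))).exists_cj_le h3 h1
  have k0 : h⁻¹.1 (r.e 0) = r.e 0 := inv_mem hh
  have k1 : ∀ g ∈ K, ∀ x y, (h * g * h⁻¹).1 x = y → g.1 (h⁻¹.1 x) = h⁻¹.1 y := fun g hg x y q => by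
    rw [← q, ← mul_ap, ← mul_ap]; congr 2; group
  have t3 := r.ts3.map h⁻¹.1
  rw [k0] at t3
  have m1 : h⁻¹.1 (r.e 1) ∈ Md K (r.e 0) := fun g hg => by
    obtain ⟨c, hc⟩ := r.u1 _ (k ⟨g, hg, rfl⟩)
    exact ⟨c, by rw [k1 g hg _ _ hc, map_add, map_smul, k0]⟩
  by_cases b0 : polar Q a (h⁻¹.1 (r.e 1)) = 0
  · exact ⟨_, m1, t3.ts, b0⟩
  have b1 : polar Q a (h⁻¹.1 (r.e 2) +
      (polar Q a (h⁻¹.1 (r.e 2)) / polar Q a (h⁻¹.1 (r.e 1))) • h⁻¹.1 (r.e 1)) = 0 := by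
    rw [polar_add_right, polar_smul_right, smul_eq_mul, div_mul_cancel₀ _ b0,
      CharTwo.add_self_eq_zero]
  generalize polar Q a (h⁻¹.1 (r.e 2)) / polar Q a (h⁻¹.1 (r.e 1)) = γ at b1
  have ts := t3.perm.2.add γ
  refine ⟨_, fun g hg => ?_, ts, b1⟩
  obtain ⟨c, d, hc⟩ := r.u2 _ (k ⟨g, hg, rfl⟩)
  obtain ⟨c', hc'⟩ := m1 g hg
  obtain ⟨s, hs⟩ := h2 g hg
  have h4 : g.1 (h⁻¹.1 (r.e 2) + γ • h⁻¹.1 (r.e 1)) = h⁻¹.1 (r.e 2) + γ • h⁻¹.1 (r.e 1) +
      (c + γ * c') • r.e 0 + d • h⁻¹.1 (r.e 1) := by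
    rw [map_add, map_smul, hc', k1 g hg _ _ hc, map_add, map_add, map_smul, map_smul, k0]
    module
  have h5 := O.map_polar g.1 a (h⁻¹.1 (r.e 2) + γ • h⁻¹.1 (r.e 1))
  rw [hs, polar_add_left, polar_smul_left, ← show g.1 (r.e 0) = r.e 0 from h1 hg, O.map_polar,
    ts.uv, h4, polar_add_right, polar_add_right, b1, polar_smul_right, polar_smul_right,
    polar_comm Q a (r.e 0), a0] at h5
  refine ⟨c + γ * c', ?_⟩
  rw [smul_zero, smul_zero, add_zero, add_zero, zero_add, smul_eq_mul] at h5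
  rw [h4, (mul_eq_zero.1 h5).resolve_right b0, zero_smul, add_zero]

theorem o2c (kg : KG Q) (hR : r.R ≤ r.U) :
    IsO2 r.R (T2 (Cz (E Q (r.e 0) a))) := by
  have cE : ∀ g : Om Q, g ∈ Cz (E Q (r.e 0) a) ↔
      g.1 (r.e 0) = r.e 0 ∧ ∃ s : F, g.1 a = a + s • r.e 0 := fun g => by
    rw [mem_Cz, eq_comm]
    exact kg.cE g _ a (r.ne 0) (r.qe 0) a0 (qa ▸ one_ne_zero)
  have hT : T2 (Cz (E Q (r.e 0) a)) ≤ Sv Q (r.e 0) := fun g hg => ((cE g).1 (T2_le _ hg)).1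
  refine ⟨(Ru_le (r.qe 0)).2 fun b _ => mem_T2 (mem_Cz.2 (E_comm ..)) (E_sq ..), hT.trans Sv_le,
    r.isP.to_le hR, fun K h1 h2 h3 g hg => ?_⟩
  have h4 := h1.trans hT
  have h5 : a ∈ Md K (r.e 0) := fun g hg => ((cE g).1 (T2_le _ (h1 hg))).2
  obtain ⟨y, y1, y2, y3⟩ := ex_fix r qa a0 h4 h5 h3
  have aa : polar Q a a = 0 := polar_self2 a
  have k1 : ∀ x, polar Q (r.e 0) x = 0 → polar Q a x = 0 → polar Q y x ≠ 0 → x ∈ Md K (r.e 0) := by
    intro x x0 x1 x2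
    obtain ⟨t, ht⟩ := exists_sq (Q x)
    have z0 : Q (x + t • a) = 0 := by
      simp [H56.Q_add, H56.Q_smul, qa, ht, polar_comm Q x, x1, CharTwo.add_self_eq_zero]
    have z1 : polar Q (x + t • a) a = 0 := by simp [polar_comm Q x, x1, aa]
    have z2 : polar Q (x + t • a) y = polar Q y x := by simp [polar_comm Q x, y3]
    have m : E Q (x + t • a) a ∈ T2 (Cz (E Q (r.e 0) a)) := mem_T2 ((cE _).2
      ⟨E_fix (by simp [polar_comm Q _ (r.e 0), x0, a0]) (by rw [polar_comm, a0]),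
        0, by rw [E_fix z1 aa, zero_smul, add_zero]⟩) (E_sq ..)
    have k2 := Md.ap (h2 m) (hT m) y1
    rw [E_apply z0 z1, y3, z2, qa, zero_smul, add_zero, one_mul] at k2
    have k3 := Submodule.smul_mem _ (polar Q y x)⁻¹ (sub_mem k2
      (add_mem y1 (Submodule.smul_mem _ (polar Q y x) h5)))
    rw [add_sub_cancel_left, inv_smul_smul₀ x2] at k3
    simpa using sub_mem k3 (Submodule.smul_mem _ t h5)
  obtain ⟨x0, k2, k3, k4⟩ : ∃ x0, polar Q (r.e 0) x0 = 0 ∧ polar Q a x0 = 0 ∧ polar Q y x0 ≠ 0 := by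
    by_contra k
    push Not at k
    obtain ⟨s, t, e⟩ := dual r p f0 f1 k
    have k5 := y2.qv
    rw [e] at k5
    have k6 : t = 0 := by simpa [H56.Q_add, H56.Q_smul, r.qe, qa, a0] using k5
    exact y2.ne_smul s (by rw [e, k6, zero_smul, add_zero])
  have k5 : ∀ x, polar Q (r.e 0) x = 0 → polar Q a x = 0 → x ∈ Md K (r.e 0) := fun x x0' x1 => by
    by_cases x2 : polar Q y x = 0
    · simpa using sub_mem (k1 (x + x0) (by simp [x0', k2]) (by simp [x1, k3]) (by simp [x2, k4]))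
        (k1 x0 k2 k3 k4)
    · exact k1 x x0' x1 x2
  have g0 : g.1 (r.e 0) = r.e 0 := h4 hg
  have e01 : polar Q (r.e 0) (r.f 1) = 0 := by simp [r.ef]
  have k6 : polar Q (r.e 0) (g.1 (r.f 1)) = 0 := by rw [← g0, O.map_polar, e01]
  obtain ⟨s, t, e⟩ := dual r p f0 f1 (x := g.1 (r.f 1) - r.f 1) fun x x0' x1 => by
    obtain ⟨c, hc⟩ := k5 x x0' x1 g hg
    have := O.map_polar g.1 (r.f 1) x
    rw [hc, polar_add_right, polar_smul_right, polar_comm Q _ (r.e 0), k6] at this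
    rw [polar_sub_left, ← this]; simp
  replace e := eq_add_of_sub_eq' e
  have k7 : t * (t + 1) = 0 := by
    have := O.map_Q g.1 (r.f 1)
    rw [e] at this
    simp only [H56.Q_add, H56.Q_smul, r.qe, r.qf, qa, polar_add_left, polar_smul_right,
      polar_smul_left, a0, polar_comm Q (r.f 1), e01, f1, smul_eq_mul] at this
    linear_combination this
  have dec : ∀ k : O Q, (∀ x, polar Q (r.e 0) x = 0 → polar Q a x = 0 → ∃ c : F, k x = x + c • r.e 0) →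
      (∃ c : F, k (r.f 1) = r.f 1 + c • r.e 0) →
      ∀ x, polar Q (r.e 0) x = 0 → ∃ c : F, k x = x + c • r.e 0 := fun k q1 ⟨d, q2⟩ x hx => by
    obtain ⟨c, hc⟩ := q1 (x - polar Q a x • r.f 1) (by simp [hx, e01]) (by simp [f1])
    refine ⟨c + polar Q a x * d, ?_⟩
    rw [map_sub, map_smul, q2] at hc
    rw [eq_add_of_sub_eq hc]
    module
  rcases mul_eq_zero.1 k7 with t0 | t1
  · exact exists_eq_E p.nd (r.ne 0) (r.qe 0) g0 (dec g.1 (fun x x0' x1 => k5 x x0' x1 g hg)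
      ⟨s, by rw [e, t0, zero_smul, add_zero]⟩)
  · obtain ⟨c, hc⟩ := h5 g hg
    obtain ⟨b, -, hb⟩ := exists_eq_eich_of p.nd (r.ne 0) (r.qe 0) (k := g.1 * refl Q a)
      (by rw [O.mul_apply, refl_apply_of_orth (by rw [polar_comm, a0]), g0])
      (dec _ (fun x x0' x1 => by rw [O.mul_apply, refl_apply_of_orth x1]; exact k5 x x0' x1 g hg)
        ⟨s - c, by
          rw [O.mul_apply, refl_apply, qa, f1, map_sub, map_smul, e, hc,
            eq_neg_of_add_eq_zero_left t1, CharTwo.neg_eq]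
          module⟩)
    exact absurd ((mul_mem_cancel_left g.2).1 (hb ▸ eich_mem_EG _ _))
      (p.refl_notMem (qa ▸ one_ne_zero))

end C

omit p in
theorem jobU1 : JobU1 := by
  intro n F _ _ _ _ _ _ b c o V _ _ _ Q ι r w d k kd
  have p := d.par.toPar0
  have fg := d.fg
  refine ⟨o2c r p ?_ ?_ ?_ ?_ k.toKG fg.le.1, o2r r p k.toKS fg.le.1, max r p k.toKS⟩
  · simp [H56.Q_add, d.qw, r.qe, polar_comm Q w, d.we]
  · simp [d.we, r.ee]
  · simp [polar_comm Q w, d.wf, r.ef]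
  · simp [polar_comm Q w, d.wf, r.ef]

end H86.O6.JU1
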