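import Cfsg.Agent.H86.O6.Def
import Cfsg.Agent.H85.P6.Fac
import Cfsg.Agent.H73.P6PC
import Cfsg.Agent.H67.SAAB
import Cfsg.Agent.H64.SGCov

/-! STD-SP endgame, orthogonal model, slot `XS`: facts on `X = Sp_(n+1)(q)`. -/

set_option autoImplicit false
set_option linter.unusedSectionVars false

namespace H86.O6.JXS

open H64.SG (O2 Cz Ns Inv2 IsO2 fx mem_fx mem_Cz)
open H85.P6.H67.UA hiding Par FV FW Base
open H85.P6.H67.SP Subgroup

variable {n : ℕ} {F : Type} [Field F] [StarRing F] [TrivialStar F] [CharP F 2] [Finite F]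

theorem wx_add {z : XU n F} {a b : Vn n F} (ha : Wx z a) (hb : Wx z b) : Wx z (a + b) := by
  obtain ⟨x, rfl⟩ := ha
  obtain ⟨y, rfl⟩ := hb
  exact ⟨x + y, by rw [ac_add]; abel⟩

theorem wx_smul {z : XU n F} {a : Vn n F} (ha : Wx z a) (c : F) : Wx z (c • a) := by
  obtain ⟨x, rfl⟩ := ha
  exact ⟨c • x, by rw [ac_smul, smul_add]⟩

theorem wx_ac {z g : XU n F} (hg : g ∈ Cz z) {a : Vn n F} (ha : Wx z a) : Wx z (ac g a) := by
  obtain ⟨x, rfl⟩ := ha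
  exact ⟨ac g x, by rw [ac_add, ← ac_mul, ← mem_Cz.1 hg, ac_mul]⟩

theorem wx_fix {z : XU n F} (hz : z * z = 1) {a : Vn n F} (ha : Wx z a) : ac z a = a := by
  obtain ⟨x, rfl⟩ := ha
  rw [ac_add, ← ac_mul, hz, ac_one, add_comm]

theorem wx_perp {z : XU n F} (hz : z * z = 1) {a b : Vn n F} (ha : Wx z a) (hb : Wx z b) :
    hf a b = 0 := by
  obtain ⟨x, rfl⟩ := ha
  rw [hf_add_left, hf_ac_left, inv_eq_of_mul_eq_one_right hz, wx_fix hz hb,
    CharTwo.add_self_eq_zero]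

theorem ac_eq (g : XU n F) (y : Vn n F) : ac g y = y + (ac g y + y) := by
  rw [add_left_comm, v_add_self, add_zero]

/-- The elements that are trivial on `W = [V, z]` and on `V / W`. -/
def RR (z : XU n F) : Subgroup (XU n F) where
  carrier := {g | (∀ y, Wx z (ac g y + y)) ∧ ∀ w, Wx z w → ac g w = w}
  one_mem' := ⟨fun y => ⟨0, by simp⟩, fun w _ => ac_one w⟩
  mul_mem' := fun {a b} ha hb => ⟨fun y => by
    have h := wx_add (ha.1 y) (hb.1 y)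
    rw [ac_mul, ac_eq b y, ac_add, ha.2 _ (hb.1 y)]
    rwa [add_right_comm], fun w hw => by rw [ac_mul, hb.2 w hw, ha.2 w hw]⟩
  inv_mem' := fun {a} ha => ⟨fun y => by
    have h := ha.1 (ac a⁻¹ y)
    rwa [ac_ac_inv, add_comm] at h, fun w hw => ac_inj a (by rw [ac_ac_inv, ha.2 w hw])⟩

theorem RR_sq {z g : XU n F} (hg : g ∈ RR z) : g * g = 1 := ac_ext fun y => by
  rw [ac_mul, ac_one]
  nth_rw 1 [ac_eq g y]
  rw [ac_add, hg.2 _ (hg.1 y), ← add_assoc, v_add_self, zero_add]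

theorem RR_le {z : XU n F} (hz : z * z = 1) : RR z ≤ Cz z := fun g hg => mem_Cz.2 (ac_ext fun y => by
  rw [ac_mul, ac_mul]
  have h1 : ac g (ac z y) = ac g y + (ac z y + y) := by
    nth_rw 1 [ac_eq z y]
    rw [ac_add, hg.2 _ ⟨y, rfl⟩]
  have h2 : ac z (ac g y) = ac z y + (ac g y + y) := by
    nth_rw 1 [ac_eq g y]
    rw [ac_add, wx_fix hz (hg.1 y)]
  rw [h1, h2]; abel)

theorem RR_conj {z g h : XU n F} (hh : h ∈ Cz z) (hg : g ∈ RR z) : h * g * h⁻¹ ∈ RR z :=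
  ⟨fun y => by
    have k := wx_ac hh (hg.1 (ac h⁻¹ y))
    rwa [ac_add, ac_ac_inv, ← ac_mul, ← ac_mul] at k, fun w hw => by
    rw [ac_mul, ac_mul, hg.2 _ (wx_ac (inv_mem hh) hw), ac_ac_inv]⟩

theorem RR_norm (z : XU n F) : Cz z ≤ Ns (RR z) := fun h hh => mem_normalizer_iff.2 fun g =>
  ⟨RR_conj hh, fun k => by simpa [mul_assoc] using RR_conj (inv_mem hh) k⟩

theorem RR_two (z : XU n F) : IsPGroup 2 (RR z) := fun g => ⟨1, Subtype.ext (by
  simpa [pow_two] using RR_sq g.2)⟩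

theorem TT_mem [FV n F] {z : XU n F} (hz : z * z = 1) {w : Vn n F} (hw : Wx z w) :
    TT w ∈ RR z := ⟨fun y => by
  rw [ac_Tc (FV.iso w) (star_one F), add_right_comm, v_add_self, zero_add]
  exact wx_smul hw _, fun a ha => by
  rw [ac_Tc (FV.iso w) (star_one F), wx_perp hz ha hw, mul_zero, zero_smul, add_zero]⟩

theorem lo [H85.P6.H67.SP.Par n F] [H85.P6.H67.SP.Base n F] (q : Nat.card F = 2) (u : XU n F) (h : Lr u) : u ∈ O2 (Cz u) := by
  obtain ⟨g, rfl⟩ := isConj_iff.1 ((FR.lr u).1 h)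
  have c := H85.P6.H78.S2.fc_of n F H73.P6PC.jobPC q
  have h1 : xb n F ∈ O2 (Cz (xb n F)) := by
    rw [FR.cz _ 1 (ev_ne 0) one_ne_zero]
    exact Pc_le_O2 _ (c.ob.1 ((FV.mem_Qv _ _).2 ⟨0, 1, hf_zero_left _, rfl⟩))
  refine O2_mono' ?_ (map_O2_le (MulAut.conj g).toMonoidHom _ ⟨_, h1, rfl⟩)
  rintro _ ⟨a, ha, rfl⟩
  have := mem_Cz.1 ha
  refine mem_Cz.2 ?_
  change g * xb n F * g⁻¹ * (g * a * g⁻¹) = g * a * g⁻¹ * (g * xb n F * g⁻¹)
  simp only [mul_assoc, inv_mul_cancel_left, mul_right_inj]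
  rw [← mul_assoc, this, mul_assoc]

theorem zp [H85.P6.H67.SP.Base n F] (z : XU n F) (hz : Sr z) : Inv2 z ∧ ∃ A, IsO2 A (Cz z) ∧
    z ∈ closure {v | v ∈ A ∧ v * v = 1 ∧ Lr v} := by
  have k1 := ((FR.rk _).2.1.1 hz).1
  have hA := H64.SG.isO2_pCoreOf (Cz z)
  have hR := hA.2.2.2 _ (RR_le k1.1) (RR_norm z) (RR_two z)
  refine ⟨k1, _, hA, ?_⟩
  obtain ⟨u, v, h1, h2, h3⟩ := hz
  have hp := FV.pp u v h1
  have hw : ∀ s t : F, Wx z (s • u + t • v) := fun s t => by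
    obtain ⟨y, hy⟩ := FW.sep 2 ![u, v] (LinearIndependent.pair_iff.2 h2) ![t, s]
    have y0 : hf y u = t := hy 0
    have y1 : hf y v = s := hy 1
    refine ⟨y, ?_⟩
    rw [h3, ac_qq hp, y0, y1, add_comm _ y, ← add_assoc, ← add_assoc, v_add_self, zero_add]
  have hm : ∀ s t : F, ¬ (s = 0 ∧ t = 0) → TT (s • u + t • v) ∈
      closure {x | x ∈ Cfsg.pCoreOf 2 (Cz z) ∧ x * x = 1 ∧ Lr x} := fun s t hst =>
    subset_closure ⟨hR (TT_mem k1.1 (hw s t)), Tc_mul_self (FV.iso _) (star_one F),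
      _, fun h => hst (h2 s t h), rfl⟩
  have m1 := hm 1 1 (by simp)
  have m2 := hm 1 0 (by simp)
  have m3 := hm 0 1 (by simp)
  simp only [one_smul, zero_smul, add_zero, zero_add] at m1 m2 m3
  have m4 := mul_mem (mul_mem m1 m2) m3
  rwa [← qq_eq_TT hp, ← h3] at m4

theorem jobXS : H86.O6.JobXS := by
  intro n F _ _ _ _ _ hn q _ _
  have : H85.P6.H67.SP.Par n F := ⟨by rw [hn.out]; decide, hn.out.ge, hn.out⟩
  have b := H85.P6.H78.S2.base n F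
  refine ⟨(FA.ns (n := n) (F := F)).cen, fun ψ u => (FA.cls (n := n) (F := F) ψ u).1, lo q,
    fun ψ _ h2 => ?_, zp⟩
  obtain ⟨g, hg⟩ := FA.two (n := n) q ψ
  exact (h2 g hg).elim

end H86.O6.JXS
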