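import Cfsg.Agent.H86.O6.KG
import Cfsg.Agent.H86.O6.KR
import Cfsg.Agent.H86.O6.KN
import Cfsg.Agent.H86.O6.KL
import Cfsg.Agent.H86.O6.KS
import Cfsg.Agent.H86.O6.KD
import Cfsg.Agent.H86.O6.QN
import Cfsg.Agent.H86.O6.L1
import Cfsg.Agent.H86.O6.M1
import Cfsg.Agent.H86.O6.M3
import Cfsg.Agent.H86.O6.MC
import Cfsg.Agent.H86.O6.RD
import Cfsg.Agent.H86.O6.OB
import Cfsg.Agent.H86.O6.OH
import Cfsg.Agent.H86.O6.OS
import Cfsg.Agent.H86.O6.IR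
import Cfsg.Agent.H86.O6.OC
import Cfsg.Agent.H86.O6.U1
import Cfsg.Agent.H86.O6.OU
import Cfsg.Agent.H86.O6.XS
import Cfsg.Agent.H86.O6.Dc

/-! Rows S1734, S3133: the orthogonal model `Sp₆(2) ≤ Ω₈^±(2)`, the result. -/

set_option autoImplicit false

namespace H86.O6

open H64.YE (QS MI M1 M2 M3 ON NA ME MC RD RA RZ OB OH OS OC OU OQ LS MB)
open H67.SP (Lr Sr)
open H67.UA (XU)
open H59.SO (Om Xl Fr)
open H86.SPI (iO tO w0)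

variable {n : ℕ} {F : Type} [Field F] [StarRing F] [TrivialStar F] [CharP F 2] [Finite F]

/-- All parts of the model but `RA`. -/
structure Res (δ : F) (r : Fr (H86.SPI.QD n F δ)) : Prop where
  dc : Dc (iO n F δ) r (w0 n F)
  kk : KK r
  kd : KD (iO n F δ) r (w0 n F)
  mb : MB (iO n F δ) (tO n F δ) Lr r.U
  on : ON (iO n F δ)
  na : NA (Om (H86.SPI.QD n F δ))
  me : ME (iO n F δ) (tO n F δ) Lr Sr
  mc : MC (iO n F δ) (tO n F δ) LS r.U r.R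
  rd : RD (iO n F δ) (tO n F δ) LS r.U (r.z 1) r.Z r.QQ
  rz : RZ (tO n F δ) (r.z 1) r.Z r.QQ
  ob : OB (iO n F δ) (tO n F δ) (r.z 1) (cc r (w0 n F))
  oh : OH (tO n F δ) (r.z 1) r.R
  os : OS (iO n F δ) (tO n F δ) (cc r (w0 n F)) r.R
  oc : OC (iO n F δ) (tO n F δ) LS (cc r (w0 n F)) r.R
    (R0 (H86.SPI.QD n F δ) (r.e 0) (w0 n F + r.e 1)) (Xl (H86.SPI.QD n F δ) (r.e 0) (w0 n F + r.e 1))
  ou : OU (iO n F δ) (r.z 1) (cc r (w0 n F)) r.R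
  oq : OQ r.U r.Z r.QQ (cc r (w0 n F))

theorem res (hn : n = 5) (q : Nat.card F = 2) (δ : F) : ∃ r, Res (n := n) δ r := by
  have : Fact (n = 5) := ⟨hn⟩
  have c := trivial
  obtain ⟨r, d⟩ := JDc.jobDc n F q c c δ
  have kg := JKG.jobKG _ _ _ d.par r
  have kr := JKR.jobKR _ _ _ d.par r kg
  have kn := JKN.jobKN _ _ _ d.par r kg
  have k : KK r := ⟨kg, kr, kn, JKL.jobKL _ _ _ d.par r kg kr kn, JKS.jobKS _ _ _ d.par r kg⟩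
  have xs := JXS.jobXS n F q c c
  have kd := JKD.jobKD n F q c c _ _ _ r _ d k
  obtain ⟨qs, na'⟩ := JQN.jobQN n F q c c _ _ _ r _ d k
  obtain ⟨m1, m2⟩ := JM1.jobM1 n F q c c _ _ _ r _ d k
  obtain ⟨l1, me⟩ := JL1.jobL1 n F q c c _ _ _ r _ d k xs
  obtain ⟨rd, rz⟩ := JRD.jobRD n F q c c _ _ _ r _ d k kd
  obtain ⟨ob, oq⟩ := JOB.jobOB n F q c c _ _ _ r _ d k kd
  exact ⟨r, d, k, kd, ⟨m1, m2, qs, JM3.jobM3 n F q c c _ _ _ r _ d k l1 xs⟩,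
    fun y h1 h2 => k.on y h1 fun h => h2 ((kd.mi y).2 h), na', me,
    JMC.jobMC n F q c c _ _ _ r _ d k kd, rd, rz, ob, JOH.jobOH n F q c c _ _ _ r _ d k kd,
    JOS.jobOS n F q c c _ _ _ r _ d k kd,
    jobOC n F q c c _ _ _ r _ d k kd (JIR.jobIR n F q c c _ _ _ r _ d k kd),
    JOU.jobOU n F q c c _ _ _ r _ d k kd (JU1.jobU1 n F q c c _ _ _ r _ d k kd), oq⟩

theorem mb (hn : n = 5) (q : Nat.card F = 2) (δ : F) : ∃ U, MB (iO n F δ) (tO n F δ) Lr U ∧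
    ON (iO n F δ) ∧ NA (Om (H86.SPI.QD n F δ)) :=
  have ⟨r, h⟩ := res hn q δ
  ⟨r.U, h.mb, h.on, h.na⟩

end H86.O6
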