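import Cfsg.Agent.H64.YEMod
import Cfsg.Agent.H59.SOAll

/-! Rows S1734, S3133 (copy of `SPODef` for `Sp₆(2) ≤ Ω₈^±(2)`): the orthogonal model `X = Stab w ≤ Y = Ω(V, Q)`, `τ` the reflection
in `w`.  Slots for `H64.YE.JobMO`.  Notes: `blueprints/STDSP_O.md`. -/

set_option autoImplicit false
set_option linter.unusedSectionVars false

namespace H86.O6

open H64.SG (O2 Syl Cz Cs Ns cjs Is2 Inv2 IsO2 fx)
open H64.YE (QS MI M1 M2 M3 ON NA ME MC RD RA RZ OB OH OS OC OU OQ PO LS Ac tw Good Co T2 MB RtO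
  Mod JobNA)
open H67.SP (Lr Sr)
open H67.UA (XU)
open H67.SA (St cm)
open H64.SF (Outer)
open H59.SO (Om Au E gam Lin TS Root Ru Xl Fr Par0 FA2 FB2 FC2 FG2 FS)
open H56 H58 QuadraticMap Module Subgroup

section Geo

variable {F V : Type} [Field F] [AddCommGroup V] [Module F V] (Q : QuadraticForm F V)

/-- `(dim V, q) = (8, 2)` -/
structure Par : Prop extends Par0 Q where
  two : Nat.card F = 2
  eight : finrank F V = 8

/-- conjugation by the reflection in `a` -/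
noncomputable def ta (a : V) : Au Q := gam Q (Gam.ofO Q (refl Q a))

/-- `y` fixes a nonsingular vector. -/
def Nv (y : Om Q) : Prop := ∃ a, Q a ≠ 0 ∧ y.1 a = a

/-- an Eichler transformation of type `c₂` -/
def Ec (y : Om Q) : Prop :=
  ∃ u a, u ≠ 0 ∧ Q u = 0 ∧ polar Q u a = 0 ∧ Q a ≠ 0 ∧ y = E Q u a

/-- `[V, g] ⊥ [V, h]` -/
def Pr (g h : Om Q) : Prop := ∀ x y, polar Q (g.1 x + x) (h.1 y + y) = 0

/-- the group generated by the `E u a` of type `c₂` with `u, a ⊥ x, y` -/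
def Gc (x y : V) : Subgroup (Om Q) := closure {g | ∃ u a, u ≠ 0 ∧ Q u = 0 ∧ polar Q u a = 0 ∧
  Q a ≠ 0 ∧ polar Q x u = 0 ∧ polar Q x a = 0 ∧ polar Q y u = 0 ∧ polar Q y a = 0 ∧ g = E Q u a}

/-- `E(e, a^⊥)` -/
def R0 (e a : V) : Subgroup (Om Q) :=
  closure {g | ∃ x, polar Q e x = 0 ∧ polar Q a x = 0 ∧ g = E Q e x}

/-- Vectors, reflections, Eichler transformations. -/
structure KG : Prop where
  p3 : ∀ x y z : V, ∃ b, Q b = 1 ∧ polar Q x b = 0 ∧ polar Q y b = 0 ∧ polar Q z b = 0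
  p4 : finrank F V ≠ 8 → ∀ x y z s : V, ∃ b, Q b = 1 ∧ polar Q x b = 0 ∧ polar Q y b = 0 ∧
    polar Q z b = 0 ∧ polar Q s b = 0
  /-- scaling to norm `1` -/
  nm : ∀ a : V, Q a ≠ 0 → ∃ s : F, s ≠ 0 ∧ Q (s • a) = 1
  w1 : ∀ a b : V, Q a = 1 → Q b = 1 → ∃ g : Om Q, g.1 a = b
  val : ∀ (a : V) (y : Om Q), (ta Q a y).1 = refl Q a * y.1 * refl Q a
  t2 : ∀ a : V, ta Q a * ta Q a = 1
  tE : ∀ a u x : V, ta Q a (E Q u x) = E Q (refl Q a u) (refl Q a x)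
  fx : ∀ (a : V) (y : Om Q), Q a ≠ 0 → (ta Q a y = y ↔ y.1 a = a)
  tw : ∀ (a : V) (g : Om Q), tw (ta Q a) g = ta Q (g.1 a)
  sc : ∀ (a : V) (s : F), s ≠ 0 → ta Q (s • a) = ta Q a
  gm : ∀ (a : V) (T : Gam Q), gam Q T * ta Q a * (gam Q T)⁻¹ = ta Q (T a)
  out : ∀ a : V, Q a ≠ 0 → Outer (ta Q a)
  inj : ∀ S T : Gam Q, (S.c : F) = 1 → (T.c : F) = 1 → gam Q S = gam Q T → S = T
  /-- a semisimilarity with trivial multiplier and trivial field part is an isometry -/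
  iso : ∀ T : Gam Q, (T.c : F) = 1 → T.σ = 1 → ∃ k, T = Gam.ofO Q k
  rr : ∀ a x : V, Q a = 1 → Q x = 0 → polar Q x a = 0 → (E Q x a).1 = refl Q (a + x) * refl Q a
  ec : ∀ y y' : Om Q, Ec Q y → (IsConj y y' ↔ Ec Q y')
  eg : ∀ (T : Gam Q) (y : Om Q), Ec Q y → Ec Q (gam Q T y)
  en : ∀ y : Om Q, Ec Q y → ¬ Root Q y ∧ Inv2 y ∧ Nv Q y ∧ ∃ x, Q (y.1 x + x) ≠ 0
  rn : ∀ y : Om Q, Root Q y → Nv Q y ∧ ∀ x, Q (y.1 x + x) = 0
  /-- `[V, E u v] ≤ ⟨u, v⟩` -/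
  mv : ∀ u v x : V, ∃ a b : F, (E Q u v).1 x + x = a • u + b • v
  cE : ∀ (g : Om Q) (u a : V), u ≠ 0 → Q u = 0 → polar Q u a = 0 → Q a ≠ 0 →
    (g * E Q u a = E Q u a * g ↔ g.1 u = u ∧ ∃ s : F, g.1 a = a + s • u)
  cG : ∀ (T : Gam Q) (u a : V), (T.c : F) = 1 → u ≠ 0 → Q u = 0 → polar Q u a = 0 → Q a = 1 →
    gam Q T (E Q u a) = E Q u a → T u = u ∧ ∃ s : F, T a = a + s • u

/-- Commuting roots. -/
structure KR : Prop where
  cl : ∀ g h : Om Q, Root Q g → Root Q h → g * h = h * g → Ec Q (g * h) ∨ Pr Q g h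
  cf : ∀ g h : Om Q, Root Q g → Root Q h → g * h = h * g → g * h = 1 ∨ Root Q (g * h) →
    ∃ a, Q a ≠ 0 ∧ g.1 a = a ∧ h.1 a = a
  d8 : finrank F V = 8 → ∀ g h : Om Q, Root Q g → Root Q h → Pr Q g h → Nv Q (g * h) →
    g * h = 1 ∨ Root Q (g * h)
  /-- a root and an involution of type `c₂` that commute -/
  rc : ∀ g h : Om Q, Root Q g → Ec Q h → g * h = h * g → ∃ a, Q a ≠ 0 ∧ g.1 a = a ∧ h.1 a = a

/-- Involutions without nonsingular fixed vectors. -/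
structure KN : Prop where
  alt : ∀ y : Om Q, y * y = 1 → ¬ Nv Q y → ∀ x, Q (y.1 x + x) = 0 ∧ polar Q x (y.1 x) = 0
  im : ∀ y : Om Q, y * y = 1 → ¬ Nv Q y → ∀ m, y.1 m = m ↔ ∃ x, m = y.1 x + x
  cj : ∀ y y' : Om Q, y * y = 1 → y' * y' = 1 → ¬ Nv Q y → ¬ Nv Q y' →
    ∃ k, y' = gam Q (Gam.ofO Q k) y
  on : ∀ y : Om Q, y * y = 1 → ¬ Nv Q y → ∃ A ≤ O2 (Cz y), Nat.card F < Nat.card A ∧
    ∀ a ∈ A, a * a = 1 ∧ IsConj y (y * a)

/-- Triality. -/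
structure KL : Prop where
  lin : finrank F V ≠ 8 → ∀ β, Lin Q β
  tri : finrank F V = 8 → (∃ y : Om Q, y * y = 1 ∧ ¬ Nv Q y) → ∃ β, ¬ Lin Q β
  ac : ∀ y y' : Om Q, Ec Q y → Ac y y' → Nv Q y' → Ec Q y'

variable {Q} (r : Fr Q)

/-- The pointwise stabilisers of `e₀` and of `e₀, e₁`. -/
structure KS : Prop where
  g1 : ∀ g : Om Q, g.1 (r.e 0) = r.e 0 → g ∈ Gc Q (r.e 0) (r.e 0)
  g2 : r.QQ ≤ Gc Q (r.e 0) (r.e 1)

/-- All facts on `(V, Q)`. -/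
structure KK : Prop extends KG Q, KR Q, KN Q, KL Q, KS r

/-- `c = E(e₀, w + e₁)` -/
noncomputable abbrev cc (w : V) : Om Q := E Q (r.e 0) (w + r.e 1)

end Geo

section Facts

variable {F V : Type} [Field F] [Finite F] [CharP F 2] [AddCommGroup V] [Module F V]
  [FiniteDimensional F V] {Q : QuadraticForm F V}

open H91.SO in
theorem fa0 (h : Par0 Q) (r : Fr Q) : FA2 Q :=
  have t : TS _ (r.e 0) (r.e 1) := r.ts
  ⟨simple h, cen h, card_syl h, root h, lin h, isFl h t, flg h t, syl h, a3 h, sol h, odd2 h, sb h⟩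

open H46.SOG H59.SO in
theorem fg0 (p0 : Par0 Q) (r : Fr Q) : FG2 r :=
  have fa := fa0 p0 r
  { zu := zu r p0
    zq := zq r
    zp := zp r p0
    sq := fun _ => QQ_sq r
    le := ⟨R_le_U r, QQ_le_U r p0, QP_le_U r, B_le_QQ r, Pi_le_QQ r, Pi_le_QP r⟩
    nr := ⟨fun g hg => ns_R r (r.u0 g hg), r.U_le_P0.trans (P0_le_Ns p0.nd r.ts), U_ns_B r, U_ns_Y r⟩
    ab := ⟨R_ab r, B_ab r, fun _ => R_sq r, fun _ => B_sq r⟩
    cr := cr r p0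
    qy := qy r p0
    cards := cards r p0
    pi := fun _ => pi_root r
    sp := sp r
    rootc := fun _ h _ hc => rootc r p0 h hc
    eich := fun _ => eich_cases r p0
    top := top r p0
    rf := rf r p0
    pp := ⟨(H64.SG.O2_le _).trans (P0_le_Ns p0.nd r.ts), pp r p0⟩
    no := fun h4 => by
      by_cases hq : Nat.card F = 2
      · exact ⟨out_odd (fa.odd2 h4 hq), out_odd (fa.odd2 h4 hq)⟩
      · exact ⟨out_perfect ⟨fa.simple, fa.cen⟩ fa.sol (by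
            rw [Fr.PP1, O2_eq_of_perfect (P0_perf r p0 hq)]; exact P0_perf r p0 hq),
          out_perfect ⟨fa.simple, fa.cen⟩ fa.sol (by
            rw [Fr.PP2, O2_eq_of_perfect (SL_perf r hq (by decide))]; exact SL_perf r hq (by decide))⟩ }

open H59.SO in
theorem fb0 (p0 : Par0 Q) (r : Fr Q) : FB2 r :=
  have fa := fa0 p0 r
  have fc := H46.SOG.fc2 r p0
  { ctR := fun _ => ctR p0 r fa
    ctQ := fun _ => ctQ p0 r fa
    ctP := fun _ => ctP p0 r fa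
    ctB := fun _ => ctB p0 r fa
    nz := fun _ _ hz h1 h => nz p0 r fa fc hz h1 h
    c2 := fun _ _ hw hq h => c2 p0 r fa hw hq h
    stU := fun _ h => stU p0 r fa fc h
    si1 := fun _ _ => or_iff_not_imp_right.2 fun h => si1 p0 r fa (not_le.1 h)
    nzn := fun _ h1 h2 _ h3 h4 => nzn p0 r fa h1 h2 h3 h4 }

end Facts

section Dict

variable {n : ℕ} {F V : Type} [Field F] [StarRing F] [TrivialStar F] [CharP F 2] [Finite F]
  [AddCommGroup V] [Module F V] {Q : QuadraticForm F V} (ι : XU n F →* Om Q) (r : Fr Q) (w : V)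

/-- `X` is the stabiliser of `w`. -/
structure Dc : Prop where
  par : Par Q
  qw : Q w = 1
  we : ∀ i, polar Q (r.e i) w = 0
  wf : ∀ i, polar Q (r.f i) w = 0
  inj : Function.Injective ι
  rng : ∀ y, y ∈ ι.range ↔ y.1 w = w
  stU : ta Q w ∈ St r.U
  lr : ∀ u, Lr u ↔ ∃ x, x ≠ 0 ∧ Q x = 0 ∧ polar Q x w = 0 ∧ ι u = E Q x w
  sr : ∀ u, Sr u ↔ Root Q (ι u)
  lie : Cfsg.IsLieTypeChar 2 (Om Q)

/-- Translation of the abstract notions. -/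
structure KD : Prop where
  mi : ∀ y, MI ι y ↔ Nv Q y
  tf : ∀ a, Q a ≠ 0 → ∃ g, tw (ta Q w) g = ta Q a
  /-- two elements are fixed by a conjugate of `τ` -/
  tf2 : ∀ x y : Om Q, (∃ a, Q a ≠ 0 ∧ x.1 a = a ∧ y.1 a = a) →
    ∃ g, tw (ta Q w) g x = x ∧ tw (ta Q w) g y = y
  rt : ∀ y, IsConj (r.z 1) y ↔ Root Q y
  cE : Ec Q (cc r w)
  ec : ∀ y, IsConj (cc r w) y ↔ Ec Q y
  er : ∀ B : Subgroup (Om Q), ∀ y ∈ B, Root Q y → y.1 w = w → y ∈ H64.YE.EG ι LS B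
  ee : ∀ B : Subgroup (Om Q), ∀ b ∈ B, ∀ (u : V) (s : F), Q u = 0 → polar Q u (b.1 w) = 0 →
    E Q u (s • b.1 w) ∈ B → E Q u (s • b.1 w) ∈ H64.YE.EG ι LS B
  e1 : Gc Q (r.e 0) (r.e 0) ≤ H64.YE.EG ι LS (Ns r.R)
  e2 : Gc Q (r.e 0) (r.e 1) ≤ H64.YE.EG ι LS (Cs r.Z)
  mono : ∀ B B' : Subgroup (Om Q), B ≤ B' → H64.YE.EG ι LS B ≤ H64.YE.EG ι LS B'

/-- An automorphism that maps `τ` into the linear ones is linear. -/
def L1 : Prop := ∀ α : Au Q, Lin Q (α * ta Q w * α⁻¹) → Lin Q α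

variable (n F) in
/-- Facts on `X`. -/
structure XS : Prop where
  cen : ∀ z : XU n F, MulAut.conj z = 1 → z = 1
  cls : ∀ (ψ : MulAut (XU n F)) u, Lr u → Lr (ψ u)
  lo : ∀ u : XU n F, Lr u → u ∈ O2 (Cz u)
  fz : ∀ ψ : MulAut (XU n F), ψ * ψ = 1 → Outer ψ → ∃ z ∈ O2 (fx ψ), Inv2 z ∧ ¬ Lr z
  zp : ∀ z : XU n F, Sr z → Inv2 z ∧ ∃ A, IsO2 A (Cz z) ∧ z ∈ closure {v | v ∈ A ∧ v * v = 1 ∧ Lr v}

/-- `OC.irr` -/
def IR : Prop := ∀ B ≤ r.R, (∀ p ∈ Cz (cc r w), p * (ta Q w p)⁻¹ ∈ Ns B) →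
  B ≤ Xl Q (r.e 0) (w + r.e 1) ∨ R0 Q (r.e 0) (w + r.e 1) ≤ B

/-- `OU`, first part. -/
structure OU1 : Prop where
  o2c : IsO2 r.R (T2 (Cz (cc r w)))
  o2r : IsO2 r.R (T2 (Ns r.R))
  max : ∀ A, T2 (Ns r.R) ≤ A → A ≤ Ns r.R ∨ A = ⊤

variable [FiniteDimensional F V] {ι r w}

theorem Dc.fa (h : Dc ι r w) : FA2 Q := fa0 h.par.toPar0 r
theorem Dc.fb (h : Dc ι r w) : FB2 r := fb0 h.par.toPar0 r
theorem Dc.fc (h : Dc ι r w) : FC2 r := H46.SOG.fc2 r h.par.toPar0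
theorem Dc.fg (h : Dc ι r w) : FG2 r := fg0 h.par.toPar0 r
theorem Dc.fs (h : Dc ι r w) : FS Q := H48.SOI.fs h.par.toPar0

end Dict

/-- A statement on `(V, Q)`. -/
def All (P : ∀ (F V : Type) [Field F] [AddCommGroup V] [Module F V] (Q : QuadraticForm F V),
    Fr Q → Prop) : Prop :=
  ∀ (F V : Type) [Field F] [Finite F] [CharP F 2] [AddCommGroup V] [Module F V]
    [FiniteDimensional F V] (Q : QuadraticForm F V), Par Q → ∀ r : Fr Q, P F V Q r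

/-- `n = 5`, `q = 2` -/
def AllM (P : ∀ (_ : ℕ) (F : Type) [Field F] [StarRing F] [TrivialStar F] [CharP F 2] [Finite F],
    Prop) : Prop :=
  ∀ (n : ℕ) (F : Type) [Field F] [StarRing F] [TrivialStar F] [CharP F 2] [Finite F]
    [Fact (n = 5)], Nat.card F = 2 → True → True → P n F

def JobKG : Prop := All fun _ _ _ _ _ Q _ => KG Q
def JobKR : Prop := All fun _ _ _ _ _ Q _ => KG Q → KR Q
def JobKN : Prop := All fun _ _ _ _ _ Q _ => KG Q → KN Q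
def JobKL : Prop := All fun _ _ _ _ _ Q _ => KG Q → KR Q → KN Q → KL Q
def JobKS : Prop := All fun _ _ _ _ _ Q r => KG Q → KS r
def JobXS : Prop := AllM fun n F _ _ _ _ _ => XS n F
def JobDc : Prop := AllM fun n F _ _ _ _ _ => ∀ δ, ∃ r : Fr (H86.SPI.QD n F δ),
  Dc (H86.SPI.iO n F δ) r (H86.SPI.w0 n F)

/-- A statement on the model. -/
def AllO (P : ∀ (n : ℕ) (F : Type) [Field F] [StarRing F] [TrivialStar F] [CharP F 2] [Finite F]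
    (V : Type) [AddCommGroup V] [Module F V] (Q : QuadraticForm F V), (XU n F →* Om Q) → Fr Q → V →
      Prop) : Prop :=
  AllM fun n F _ _ _ _ _ => ∀ (V : Type) [AddCommGroup V] [Module F V] [FiniteDimensional F V]
    (Q : QuadraticForm F V) (ι : XU n F →* Om Q) (r : Fr Q) (w : V), Dc ι r w → KK r →
      P n F V Q ι r w

/-- The same with the translation. -/
def AllD (P : ∀ (n : ℕ) (F : Type) [Field F] [StarRing F] [TrivialStar F] [CharP F 2] [Finite F]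
    (V : Type) [AddCommGroup V] [Module F V] (Q : QuadraticForm F V), (XU n F →* Om Q) → Fr Q → V →
      Prop) : Prop :=
  AllO fun n F _ _ _ _ _ V _ _ Q ι r w => KD ι r w → P n F V Q ι r w

def JobKD : Prop := AllO fun _ _ _ _ _ _ _ _ _ _ _ ι r w => KD ι r w
def JobQN : Prop := AllO fun _ _ _ _ _ _ _ _ _ _ Q _ _ _ => QS (Om Q) ∧ NA (Om Q)
def JobM1 : Prop := AllO fun _ _ _ _ _ _ _ _ _ _ Q ι r w => M1 ι (ta Q w) r.U ∧ M2 ι (ta Q w) Lr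
def JobL1 : Prop := AllO fun n F _ _ _ _ _ _ _ _ Q ι _ w =>
  XS n F → L1 (Q := Q) w ∧ ME ι (ta Q w) Lr Sr
def JobM3 : Prop := AllO fun n F _ _ _ _ _ _ _ _ Q ι _ w => L1 (Q := Q) w → XS n F →
  M3 ι (ta Q w) Lr
def JobMC : Prop := AllD fun _ _ _ _ _ _ _ _ _ _ Q ι r w =>
  MC ι (ta Q w) LS r.U r.R
def JobRD : Prop := AllD fun _ _ _ _ _ _ _ _ _ _ Q ι r w =>
  RD ι (ta Q w) LS r.U (r.z 1) r.Z r.QQ ∧ RZ (ta Q w) (r.z 1) r.Z r.QQ
def JobOB : Prop := AllD fun _ _ _ _ _ _ _ _ _ _ Q ι r w =>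
  OB ι (ta Q w) (r.z 1) (cc r w) ∧ OQ r.U r.Z r.QQ (cc r w)
def JobOH : Prop := AllD fun _ _ _ _ _ _ _ _ _ _ Q _ r w => OH (ta Q w) (r.z 1) r.R
def JobOS : Prop := AllD fun _ _ _ _ _ _ _ _ _ _ Q ι r w => OS ι (ta Q w) (cc r w) r.R
def JobIR : Prop := AllD fun _ _ _ _ _ _ _ _ _ _ _ _ r w => IR r w
def JobOC : Prop := AllD fun _ _ _ _ _ _ _ _ _ _ Q ι r w => IR r w →
  OC ι (ta Q w) LS (cc r w) r.R (R0 Q (r.e 0) (w + r.e 1)) (Xl Q (r.e 0) (w + r.e 1))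
def JobU1 : Prop := AllD fun _ _ _ _ _ _ _ _ _ _ _ _ r w => OU1 r w
def JobOU : Prop := AllD fun _ _ _ _ _ _ _ _ _ _ _ ι r w => OU1 r w → OU ι (r.z 1) (cc r w) r.R

end H86.O6
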