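import Cfsg.Agent.H86.O6.Def
import Cfsg.Agent.H48.SOIa
import Cfsg.Agent.H91.SOFA

/-! STD-SP endgame, orthogonal model: slot IR. -/

set_option autoImplicit false
set_option linter.unusedSectionVars false

namespace H86.O6.JIR

open H64.SG (Cz Ns mem_Cz)
open H59.SO (Om E Ru Xl Fr Par0 polar_self2 exists_sq add_self2 neg2 sub2 E_conj E_add mem_Ru
  mem_Xl E_add_smul_self E_zero)
open H56 QuadraticMap Module H86.O6
open Submodule (span mem_span_pair)

section Lin

variable {F V : Type} [Field F] [Finite F] [CharP F 2] [AddCommGroup V] [Module F V]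
  [FiniteDimensional F V] {Q : QuadraticForm F V} {e p : V}

variable (Q e p) in
/-- the vectors of norm `1` in `⟨e, p⟩^⊥ ∖ ⟨e, p⟩` -/
structure TV (b : V) : Prop where
  eb : polar Q e b = 0
  pb : polar Q p b = 0
  qb : Q b = 1
  nm : b ∉ span F {e, p}

theorem nm_span {z b : V} (h1 : polar Q e z = 0) (h2 : polar Q p z = 0) (h : polar Q b z ≠ 0) :
    b ∉ span F {e, p} := fun k => by
  obtain ⟨a, c, rfl⟩ := mem_span_pair.1 k
  simp [h1, h2] at h

theorem Q_lift (qp : Q p = 1) {x : V} (h : polar Q p x = 0) {c s : F} (hs : s * s = c + Q x) :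
    Q (x + s • p) = c := by
  rw [H56.Q_add, H56.Q_smul, qp, polar_smul_right, polar_comm, h, hs]
  simp only [smul_eq_mul, mul_zero, mul_one, add_zero]
  rw [add_comm c, ← add_assoc, CharTwo.add_self_eq_zero, zero_add]

theorem tlift (qp : Q p = 1) (ep : polar Q e p = 0) {x : V} (h1 : polar Q e x = 0)
    (h2 : polar Q p x = 0) (h : x ∉ span F {e, p}) {s : F} (hs : s * s = 1 + Q x) :
    TV Q e p (x + s • p) :=
  ⟨by simp [h1, ep], by simp [h2, CharTwo.two_eq_zero], Q_lift qp h2 hs, fun k => h (by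
    have hp : p ∈ span F {e, p} := Submodule.subset_span (by simp)
    simpa using Submodule.sub_mem _ k (Submodule.smul_mem _ s hp))⟩

theorem TV.li (qe : Q e = 0) (qp : Q p = 1) (ep : polar Q e p = 0) (e0 : e ≠ 0) {b : V}
    (h : TV Q e p b) : LinearIndependent F ![e, p, b] := by
  refine Fintype.linearIndependent_iff.2 fun g hg => ?_
  simp only [Fin.sum_univ_three, Matrix.cons_val_zero, Matrix.cons_val_one, Matrix.cons_val] at hg
  have h2 : g 2 = 0 := by
    by_contra k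
    refine h.nm (mem_span_pair.2 ⟨-((g 2)⁻¹ * g 0), -((g 2)⁻¹ * g 1), ?_⟩)
    rw [← inv_smul_smul₀ k b, eq_neg_of_add_eq_zero_right hg]
    module
  rw [h2, zero_smul, add_zero] at hg
  have h1 : g 1 = 0 := by
    simpa [H56.Q_add, H56.Q_smul, qe, qp, ep] using congrArg Q hg
  rw [h1, zero_smul, add_zero] at hg
  have h0 := (smul_eq_zero.1 hg).resolve_right e0
  intro i
  fin_cases i <;> assumption

variable (h : Par0 Q) (qe : Q e = 0) (qp : Q p = 1) (ep : polar Q e p = 0)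
  (p3 : ∀ x y z : V, ∃ b, Q b = 1 ∧ polar Q x b = 0 ∧ polar Q y b = 0 ∧ polar Q z b = 0)
  {S : AddSubgroup V} (hS : ∀ a ∈ S, polar Q e a = 0)
  (inv : ∀ b b', TV Q e p b → TV Q e p b' → ∀ a ∈ S, refl Q b (refl Q b' a) ∈ S)
include h qe qp ep p3 hS inv

theorem step1 {a b : V} (ha : a ∈ S) (hb : TV Q e p b) : polar Q b a • b ∈ S := by
  obtain ⟨b', t, k⟩ : ∃ b', TV Q e p b' ∧ polar Q b' a = 0 := by
    by_cases k : polar Q p a = 0
    · obtain ⟨t, t1, t2, t3, t4⟩ := H48.SOI.ex_out h.nd (by have := h.dim; omega) e p a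
      obtain ⟨s, hs⟩ := exists_sq (1 + Q t)
      refine ⟨_, tlift qp ep t1 t2 (fun k => t4 (Submodule.span_mono ?_ k)) hs, by
        simp [k, polar_comm Q t, t3]⟩
      rintro x (rfl | rfl) <;> simp
    · obtain ⟨t, t0, t1, t2, t3⟩ := p3 e p a
      refine ⟨t, ⟨t1, t2, t0, fun k' => ?_⟩, by rw [polar_comm, t3]⟩
      obtain ⟨x, y, rfl⟩ := mem_span_pair.1 k'
      obtain rfl : y = 0 := by
        simpa [polar_comm Q a, hS a ha, k] using t3
      simp [H56.Q_smul, qe] at t0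
  have := S.sub_mem ha (inv b b' hb t a ha)
  rwa [refl_apply_of_orth k, refl_apply, hb.qb, inv_one, one_mul, sub_sub_cancel] at this

theorem step2 {a x : V} (ha : a ∈ S) (pa : polar Q p a = 0) (h1 : polar Q e x = 0)
    (h2 : polar Q p x = 0) (h3 : polar Q x a ≠ 0) {s : F} (hs : s * s = polar Q x a + Q x) :
    x + s • p ∈ S := by
  obtain ⟨t, ht⟩ := exists_sq (polar Q x a)
  have t0 : t ≠ 0 := fun k => h3 (by rw [← ht, k, zero_mul])
  have k : polar Q (x + s • p) a = t * t := by simp [pa, ht]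
  have := step1 h qe qp ep p3 hS inv ha (b := t⁻¹ • (x + s • p)) ⟨by simp [h1, ep],
    by simp [h2, CharTwo.two_eq_zero], by rw [H56.Q_smul, Q_lift qp h2 hs, ← ht]; field_simp,
    nm_span (hS a ha) pa (by rw [polar_smul_left, k]; simp [t0])⟩
  rwa [polar_smul_left, k, smul_smul, smul_eq_mul, show t⁻¹ * (t * t) * t⁻¹ = 1 by field_simp,
    one_smul] at this

theorem step3 {a f : V} (ha : a ∈ S) (pa : polar Q p a = 0) (f1 : polar Q e f = 0)
    (f2 : polar Q p f = 0) (f3 : polar Q f a = 1) (s : F) : s • p ∈ S := by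
  obtain ⟨x, y, ⟨x1, x2, x3⟩, ⟨y1, y2, y3⟩, xy⟩ :=
    H48.SOI.ex_pair3 h.nd (by have := h.dim; omega) e p a
  rw [polar_comm] at x3 y3
  have key : ∀ v, polar Q e v = 0 → polar Q p v = 0 → polar Q v a = 1 →
      ∃ t : F, t * t = 1 + Q v ∧ v + t • p ∈ S := fun v v1 v2 v3 => by
    obtain ⟨t, ht⟩ := exists_sq (1 + Q v)
    exact ⟨t, ht, step2 h qe qp ep p3 hS inv ha pa v1 v2 (by simp [v3]) (by rw [ht, v3])⟩
  obtain ⟨t1, a1, b1⟩ := key f f1 f2 f3
  obtain ⟨t2, a2, b2⟩ := key (f + (s * s) • x) (by simp [f1, x1]) (by simp [f2, x2])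
    (by simp [f3, x3])
  obtain ⟨t3, a3, b3⟩ := key (f + y) (by simp [f1, y1]) (by simp [f2, y2]) (by simp [f3, y3])
  obtain ⟨t4, a4, b4⟩ := key (f + (s * s) • x + y) (by simp [f1, x1, y1]) (by simp [f2, x2, y2])
    (by simp [f3, x3, y3])
  have h2 : (2 : F) = 0 := CharTwo.two_eq_zero
  rw [QuadraticMap.map_add Q f y] at a3
  rw [QuadraticMap.map_add Q _ y, polar_add_left, polar_smul_left, xy, smul_eq_mul] at a4
  have e1 : (t1 + t2 + t3 + t4 + s) ^ 2 = 0 := by
    simp only [CharTwo.add_sq]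
    linear_combination a1 + a2 + a3 + a4 +
      (2 + Q f + Q y + polar Q f y + Q (f + (s * s) • x) + s * s) * h2
  have e2 : t1 + t2 + t3 + t4 = s := by
    linear_combination (pow_eq_zero_iff two_ne_zero).1 e1 - s * h2
  have := S.add_mem (S.add_mem (S.add_mem b1 b2) b3) b4
  rwa [show f + t1 • p + (f + (s * s) • x + t2 • p) + (f + y + t3 • p) +
      (f + (s * s) • x + y + t4 • p) = (t1 + t2 + t3 + t4) • p +
      (2 : F) • (f + f + (s * s) • x + y) by module, h2, zero_smul, add_zero, e2] at this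

theorem step4 {a : V} (ha : a ∈ S) (pa : polar Q p a = 0) (na : a ∉ span F {e, p}) {x : V}
    (h1 : polar Q e x = 0) (h2 : polar Q p x = 0) : x ∈ S := by
  obtain ⟨f, f1, f2, f3⟩ := H48.SOI.ex_pol3 h.nd na
  rw [polar_comm] at f3
  have key : ∀ v, polar Q e v = 0 → polar Q p v = 0 → polar Q v a ≠ 0 → v ∈ S :=
    fun v v1 v2 v3 => by
      obtain ⟨t, ht⟩ := exists_sq (polar Q v a + Q v)
      simpa using S.sub_mem (step2 h qe qp ep p3 hS inv ha pa v1 v2 v3 ht)
        (step3 h qe qp ep p3 hS inv ha pa f1 f2 f3 t)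
  by_cases k : polar Q x a = 0
  · simpa using S.sub_mem (key (x + f) (by simp [h1, f1]) (by simp [h2, f2]) (by simp [k, f3]))
      (key f f1 f2 (by simp [f3]))
  · exact key x h1 h2 k

theorem main {u v : V} (t1 : TV Q e p (u + p)) (t2 : TV Q e p (v + p))
    (t3 : TV Q e p (u + v + p)) {a : V} (ha : a ∈ S) (na : a ∉ span F {e, p}) {x : V}
    (h1 : polar Q e x = 0) (h2 : polar Q p x = 0) : x ∈ S := by
  by_cases k : polar Q p a = 0
  · exact step4 h qe qp ep p3 hS inv ha k na h1 h2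
  obtain ⟨b, t, hb⟩ : ∃ b, TV Q e p b ∧ polar Q b a ≠ 0 := by
    by_contra! hc
    have c1 := hc _ t1
    have c2 := hc _ t2
    have c3 := hc _ t3
    simp only [polar_add_left] at c1 c2 c3
    exact k (by linear_combination c1 + c2 - c3)
  refine step4 h qe qp ep p3 hS inv (step1 h qe qp ep p3 hS inv ha t) (by simp [t.pb])
    (fun k' => t.nm ?_) h1 h2
  simpa [hb] using Submodule.smul_mem _ (polar Q b a)⁻¹ k'

end Lin

theorem jobIR : JobIR := by
  intro n F _ _ _ _ _ _ _ _ _ V _ _ _ Q ι r w d k _ B hB hN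
  have qe := r.qe 0
  have we := d.we
  have ew : ∀ i, polar Q w (r.e i) = 0 := fun i => by rw [polar_comm, we]
  have qp : Q (w + r.e 1) = 1 := by rw [H56.Q_add, d.qw, r.qe, ew]; simp
  have ep : polar Q (r.e 0) (w + r.e 1) = 0 := by simp [we, r.ee]
  have e0 : r.e 0 ≠ 0 := fun e => by simpa [e] using r.ef 0 0
  have tw : TV Q (r.e 0) (w + r.e 1) w :=
    ⟨we 0, by simp [CharTwo.two_eq_zero, we], d.qw, fun k' => by
      obtain ⟨x, y, e⟩ := mem_span_pair.1 k'
      have h1 := congrArg (fun v => polar Q v (r.f 1)) e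
      have h2 := congrArg Q e
      simp [r.ef, polar_comm Q w, d.wf] at h1
      simp [h1, H56.Q_smul, qe, d.qw] at h2⟩
  have ts : ∀ (u : V) (i : Fin 3), i ≠ 0 → Q u = 0 → polar Q (r.e 0) u = 0 →
      polar Q (w + r.e 1) u = 0 → polar Q u (r.f i) = 1 → TV Q (r.e 0) (w + r.e 1) (u + (w + r.e 1)) :=
    fun u i hi u0 u1 u2 u3 => by
      have := tlift qp ep u1 u2 (H48.SOI.sing_not_mem qe ep (by simp [qp]) u0 fun s e => by
        simp [e, r.ef, hi.symm] at u3) (s := 1) (by simp [u0])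
      rwa [one_smul] at this
  have nb : ∀ b, TV Q (r.e 0) (w + r.e 1) b → ∃ m ∈ Ns B, m.1 = refl Q b * refl Q w := by
    intro b t
    obtain ⟨g, hg⟩ := H91.SO.witt3 d.par.toPar0 (by simp) _ _ (tw.li qe qp ep e0)
      (t.li qe qp ep e0) (fun i => by fin_cases i <;> simp [t.qb, tw.qb]) fun i j hij => by
        fin_cases i <;> fin_cases j <;>
          first
          | rfl
          | exact absurd rfl hij
          | exact t.eb.trans tw.eb.symm
          | exact t.pb.trans tw.pb.symm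
          | exact ((polar_comm _ _ _).trans t.eb).trans ((polar_comm _ _ _).trans tw.eb).symm
          | exact ((polar_comm _ _ _).trans t.pb).trans ((polar_comm _ _ _).trans tw.pb).symm
    have g0 : g.1 (r.e 0) = r.e 0 := hg 0
    have g1 : g.1 (w + r.e 1) = w + r.e 1 := hg 1
    have g2 : g.1 w = b := hg 2
    refine ⟨_, hN g (mem_Cz.2 ?_), ?_⟩
    · rw [eq_comm, ← mul_inv_eq_iff_eq_mul, E_conj, g0, g1]
    · rw [Subgroup.coe_mul, Subgroup.coe_inv, k.val, ← g2, ← conj_refl]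
      simp only [mul_inv_rev, refl_inv, mul_assoc]
  let S : AddSubgroup V :=
    { carrier := {a | polar Q (r.e 0) a = 0 ∧ E Q (r.e 0) a ∈ B}
      zero_mem' := ⟨by simp, by rw [E_zero]; exact B.one_mem⟩
      add_mem' := fun {a b} ha hb => ⟨by simp [ha.1, hb.1], by
        rw [E_add qe ha.1 hb.1]; exact B.mul_mem ha.2 hb.2⟩
      neg_mem' := fun {a} ha => by rwa [neg2 F] }
  have inv : ∀ b b', TV Q (r.e 0) (w + r.e 1) b → TV Q (r.e 0) (w + r.e 1) b' → ∀ a ∈ S,
      refl Q b (refl Q b' a) ∈ S := by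
    intro b b' t t' a ha
    obtain ⟨m, m1, m2⟩ := nb b t
    obtain ⟨m', m1', m2'⟩ := nb b' t'
    have e1 : ∀ x, (m * m'⁻¹).1 x = refl Q b (refl Q b' x) := fun x => by
      rw [Subgroup.coe_mul, Subgroup.coe_inv, m2, m2']
      simp [mul_inv_rev, refl_inv, O.mul_apply]
    have := H98.conj_mem_of_mem_normalizer (mul_mem m1 (inv_mem m1')) ha.2
    rw [E_conj, e1, e1, refl_apply_of_orth ((polar_comm _ _ _).trans t'.eb),
      refl_apply_of_orth ((polar_comm _ _ _).trans t.eb)] at this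
    exact ⟨by simp [refl_apply, ha.1, t.eb, t'.eb], this⟩
  by_cases hc : ∀ a ∈ S, a ∈ span F {r.e 0, w + r.e 1}
  · refine Or.inl fun g hg => ?_
    obtain ⟨a, a1, rfl⟩ := (mem_Ru qe).1 (hB hg)
    obtain ⟨x, y, rfl⟩ := mem_span_pair.1 (hc a ⟨a1, hg⟩)
    exact (mem_Xl qe ep).2 ⟨y, by rw [add_comm, E_add_smul_self x qe (by rw [polar_smul_right, ep, smul_zero])]⟩
  · push Not at hc
    obtain ⟨a, ha, na⟩ := hc
    refine Or.inr ((Subgroup.closure_le _).2 ?_)
    rintro _ ⟨x, x1, x2, rfl⟩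
    exact (main (S := S) d.par.toPar0 qe qp ep k.p3 (fun a ha => ha.1) inv
      (ts (r.e 1) 1 (by simp) (r.qe 1) (r.ee 0 1) (by simp [ew, r.ee]) (by simp [r.ef]))
      (ts (r.e 2) 2 (by simp) (r.qe 2) (r.ee 0 2) (by simp [ew, r.ee]) (by simp [r.ef]))
      (ts (r.e 1 + r.e 2) 1 (by simp) (by simp [H56.Q_add, r.qe, r.ee]) (by simp [r.ee])
        (by simp [ew, r.ee]) (by simp [r.ef])) ha na x1 x2).2

end H86.O6.JIR
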