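import Cfsg.Agent.H86.O6.Def

/-! STD-SP (row S3129), orthogonal model, slot KG: vectors, reflections, Eichler transformations. -/

set_option autoImplicit false
set_option linter.unusedSectionVars false

namespace H86.O6.JKG

open H64.SG (Inv2)
open H64.YE (tw)
open H64.SF (Outer)
open H59.SO H86.O6 H56 H58 QuadraticMap Module Subgroup

variable {F V : Type} [Field F] [Finite F] [CharP F 2] [AddCommGroup V] [Module F V]
  [FiniteDimensional F V] {Q : QuadraticForm F V}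

theorem nm (a : V) (h : Q a ≠ 0) : ∃ s : F, s ≠ 0 ∧ Q (s • a) = 1 := by
  obtain ⟨s, hs⟩ := exists_sq (Q a)⁻¹
  refine ⟨s, fun e => ?_, by rw [H56.Q_smul, hs, inv_mul_cancel₀ h]⟩
  rw [e, mul_zero] at hs
  exact inv_ne_zero h hs.symm

theorem one_of_sq {s : F} (h : s * s = 1) : s = 1 :=
  (mul_self_eq_one_iff.1 h).elim id fun e => e.trans (CharTwo.neg_eq 1)

theorem val (a : V) (y : Om Q) : (ta Q a y).1 = refl Q a * y.1 * refl Q a := by
  rw [ta, gam_ofO_val, refl_inv]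

theorem gm (a : V) (T : Gam Q) : gam Q T * ta Q a * (gam Q T)⁻¹ = ta Q (T a) := by
  rw [ta, ta, ← map_inv, ← map_mul, ← map_mul, ← Gam.ofO_conjO, Gam.conjO_refl]

theorem mv (u v x : V) : ∃ a b : F, (E Q u v).1 x + x = a • u + b • v := by
  by_cases h : Q u = 0 ∧ polar Q u v = 0
  · refine ⟨polar Q v x + Q v * polar Q u x, polar Q u x, ?_⟩
    rw [E_apply h.1 h.2, add_smul]
    linear_combination (norm := module) add_self2 F x
  · refine ⟨0, 0, ?_⟩
    rw [E_of_not h, zero_smul, zero_smul, add_zero]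
    exact add_self2 F x

theorem Q_as {u a : V} (hu : Q u = 0) (h : polar Q u a = 0) (c : F) : Q (a + c • u) = Q a := by
  rw [H58.Q_add, H56.Q_smul, hu, polar_smul_right, polar_comm, h]; simp

theorem eg (T : Gam Q) (y : Om Q) (h : Ec Q y) : Ec Q (gam Q T y) := by
  obtain ⟨u, a, h0, hu, ha, hq, rfl⟩ := h
  refine ⟨T u, _, fun e => h0 (T.injective (e.trans (map_zero T.toEquiv).symm)),
    T.Q_apply_eq_zero.2 hu, ?_, ?_, gam_E T u a⟩
  · rw [polar_smul_right, T.polar_apply_eq_zero.2 ha, smul_zero]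
  · rw [H56.Q_smul]
    exact mul_ne_zero (mul_ne_zero (Units.ne_zero _) (Units.ne_zero _))
      fun e => hq (T.Q_apply_eq_zero.1 e)

variable (p : Par0 Q)
include p

theorem ex_pol {u : V} (h : u ≠ 0) : ∃ x, polar Q u x = 1 := by
  obtain ⟨x, hx⟩ : ∃ x, polar Q u x ≠ 0 := by
    by_contra! hc
    exact h (p.nd.1 u hc)
  exact ⟨(polar Q u x)⁻¹ • x, by rw [polar_smul_right, smul_eq_mul, inv_mul_cancel₀ hx]⟩

theorem pm {m : ℕ} (hm : 2 * m < finrank F V) (x : Fin m → V) :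
    ∃ b, Q b = 1 ∧ ∀ i, polar Q (x i) b = 0 := by
  obtain ⟨z, z1, z2⟩ : ∃ z ∈ perp Q (Submodule.span F (Set.range x)), Q z ≠ 0 := by
    by_contra! hc
    have a := two_mul_finrank_le_of_singular p.nd hc
    have b := finrank_perp_add p.nd (Submodule.span F (Set.range x))
    have c := finrank_range_le_card (R := F) x
    rw [Set.finrank, Fintype.card_fin] at c
    omega
  obtain ⟨s, -, hs⟩ := nm z z2
  refine ⟨_, hs, fun i => ?_⟩
  have : polar Q (x i) z = 0 := z1 _ (Submodule.subset_span ⟨i, rfl⟩)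
  rw [polar_smul_right, this, smul_zero]

theorem p3 (x y z : V) :
    ∃ b, Q b = 1 ∧ polar Q x b = 0 ∧ polar Q y b = 0 ∧ polar Q z b = 0 := by
  obtain ⟨b, h, k⟩ := pm p (m := 3) (by have := p.dim; omega) ![x, y, z]
  exact ⟨b, h, k 0, k 1, k 2⟩

theorem p4 (h8 : finrank F V ≠ 8) (x y z s : V) : ∃ b, Q b = 1 ∧ polar Q x b = 0 ∧
    polar Q y b = 0 ∧ polar Q z b = 0 ∧ polar Q s b = 0 := by
  obtain ⟨b, h, k⟩ := pm p (m := 4) (by have := p.dim; omega) ![x, y, z, s]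
  exact ⟨b, h, k 0, k 1, k 2, k 3⟩

theorem w1 (a b : V) (ha : Q a = 1) (hb : Q b = 1) : ∃ g : Om Q, g.1 a = b := by
  have k : ∀ c : V, Q c = 1 → LinearIndependent F fun _ : Unit => c := fun c hc =>
    linearIndependent_unique_iff.2 fun e => by
      have e' : c = 0 := e
      rw [e', map_zero] at hc
      exact zero_ne_one hc
  obtain ⟨g, hg⟩ := H91.SO.witt3 p (ι := Unit) (by simp) _ _ (k a ha) (k b hb)
    (fun _ => hb.trans ha.symm) fun _ _ h => absurd rfl h
  exact ⟨g, hg ()⟩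

theorem fxa (a : V) (y : Om Q) (h : Q a ≠ 0) : ta Q a y = y ↔ y.1 a = a := by
  constructor
  · intro e
    have e1 : refl Q (y.1 a) = refl Q a := by
      have e2 := (val a y).symm.trans (congrArg Subtype.val e)
      rw [← conj_refl, mul_inv_eq_iff_eq_mul]
      conv_lhs => rw [← e2]
      rw [mul_assoc, refl_mul_self, mul_one]
    obtain ⟨x, hx⟩ := ex_pol p (u := a) fun e => h (by rw [e, map_zero])
    have e3 := congrArg (fun k : O Q => k x) e1
    simp only [refl_apply, O.map_Q, hx, mul_one, sub_right_inj] at e3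
    have e4 : polar Q (y.1 a) x • y.1 a = a := by
      have := congrArg (fun v => Q a • v) e3
      simpa only [smul_smul, mul_inv_cancel_left₀ h, mul_inv_cancel₀ h, one_smul] using this
    have e5 := congrArg Q e4
    rw [H56.Q_smul, O.map_Q] at e5
    rwa [one_of_sq (mul_right_cancel₀ h (e5.trans (one_mul _).symm)), one_smul] at e4
  · intro e
    refine Subtype.ext ?_
    rw [val, mul_assoc, mul_refl, e, ← mul_assoc, refl_mul_self, one_mul]

theorem inj (S T : Gam Q) (hS : (S.c : F) = 1) (hT : (T.c : F) = 1) (h : gam Q S = gam Q T) :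
    S = T := by
  obtain ⟨s, hs⟩ : S⁻¹ * T ∈ (Gam.sc Q).range := ker_rho p.nd (H91.SO.h5 p) ▸ (by
    rw [MonoidHom.mem_ker, ← H91.SO.tr_gam p, map_mul, map_inv, h, inv_mul_cancel, map_one])
  have := congrArg (fun S : Gam Q => (S.c : F)) hs
  simp only [Gam.sc_c, Gam.mul_c, Gam.inv_c, hS, hT, map_one, mul_one, inv_one] at this
  rw [show s = 1 from Units.ext (one_of_sq ((pow_two _).symm.trans this)), map_one] at hs
  exact inv_mul_eq_one.1 hs.symm

theorem out (a : V) (h : Q a ≠ 0) : Outer (ta Q a) := fun g e =>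
  p.refl_notMem h (by
    rw [Gam.ofO_injective (inj p _ _ rfl rfl (e.trans (gam_ofO g).symm))]; exact g.2)

theorem ec (y y' : Om Q) (h : Ec Q y) : IsConj y y' ↔ Ec Q y' := by
  constructor
  · intro k
    obtain ⟨g, rfl⟩ := isConj_iff.1 k
    have := eg (Gam.ofO Q g.1) y h
    rwa [gam_ofO] at this
  · obtain ⟨u, a, h0, hu, ha, hq, rfl⟩ := h
    rintro ⟨u', a', h0', hu', ha', hq', rfl⟩
    obtain ⟨s, hs⟩ := exists_sq (Q a * (Q a')⁻¹)
    have s0 : s ≠ 0 := fun e => by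
      rw [e, mul_zero] at hs
      exact mul_ne_zero hq (inv_ne_zero hq') hs.symm
    obtain ⟨g, g1, g2⟩ := p.witt_c2 (u' := s⁻¹ • u') (w' := s • a') h0 hu ha hq
      (smul_ne_zero (inv_ne_zero s0) h0') (by rw [H56.Q_smul, hu', mul_zero])
      (by rw [polar_smul_left, polar_smul_right, ha', smul_zero, smul_zero])
      (by rw [H56.Q_smul, hs, inv_mul_cancel_right₀ hq'])
    refine isConj_iff.2 ⟨g, ?_⟩
    rw [E_conj, g1, g2, E_smul_left _ hu' (by rw [polar_smul_right, ha', smul_zero]),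
      inv_smul_smul₀ s0]

theorem en (y : Om Q) (h : Ec Q y) :
    ¬ Root Q y ∧ Inv2 y ∧ Nv Q y ∧ ∃ x, Q (y.1 x + x) ≠ 0 := by
  obtain ⟨u, a, h0, hu, ha, hq, rfl⟩ := h
  have k := H91.SO.not_root p h0 hu ha hq 1
  obtain ⟨x, hx⟩ := ex_pol p h0
  refine ⟨fun e => k (.inr e), ⟨E_sq u a, fun e => k (.inl e)⟩,
    ⟨a, hq, E_fix ha (polar_self2 a)⟩, x, ?_⟩
  have : (E Q u a).1 x + x = a + (polar Q a x + Q a) • u := by
    rw [E_apply hu ha, hx, add_smul, mul_one, one_smul]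
    linear_combination (norm := module) add_self2 F x
  rwa [this, Q_as hu ha]

theorem rn (y : Om Q) (h : Root Q y) : Nv Q y ∧ ∀ x, Q (y.1 x + x) = 0 := by
  obtain ⟨u, v, t, rfl⟩ := h
  obtain ⟨b, h, k1, k2, -⟩ := p3 p u v v
  refine ⟨⟨b, by rw [h]; exact one_ne_zero, E_fix k1 k2⟩, fun x => ?_⟩
  obtain ⟨a, c, e⟩ := mv (Q := Q) u v x
  rw [e, H58.Q_add, H56.Q_smul, H56.Q_smul, t.qu, t.qv, polar_smul_left, polar_smul_right, t.uv]
  simp

theorem key {u a u' a' : V} (h0 : u ≠ 0) (hu : Q u = 0) (ha : polar Q u a = 0) (hq : Q a ≠ 0)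
    (hu' : Q u' = 0) (ha' : polar Q u' a' = 0) (hq' : Q a' = Q a) (e : E Q u' a' = E Q u a) :
    u' = u ∧ ∃ s : F, a' = a + s • u := by
  obtain ⟨s, -, e1, c, e2⟩ := E_eq_E p.nd h0 hu ha hq hu' ha' e
  have e3 := congrArg Q e2
  rw [H56.Q_smul, Q_as hu ha, hq'] at e3
  rw [one_of_sq (mul_right_cancel₀ hq (e3.trans (one_mul _).symm)), one_smul] at e1 e2
  exact ⟨e1, c, e2⟩

theorem cE (g : Om Q) (u a : V) (h0 : u ≠ 0) (hu : Q u = 0) (ha : polar Q u a = 0) (hq : Q a ≠ 0) :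
    g * E Q u a = E Q u a * g ↔ g.1 u = u ∧ ∃ s : F, g.1 a = a + s • u := by
  rw [mul_E, mul_left_inj]
  constructor
  · exact key p h0 hu ha hq (by rw [O.map_Q, hu]) (by rw [O.map_polar, ha]) (O.map_Q _ _)
  · rintro ⟨e1, s, e2⟩
    rw [e1, e2, E_add_smul_self s hu ha]

theorem cG (T : Gam Q) (u a : V) (hT : (T.c : F) = 1) (h0 : u ≠ 0) (hu : Q u = 0)
    (ha : polar Q u a = 0) (hq : Q a = 1) (e : gam Q T (E Q u a) = E Q u a) :
    T u = u ∧ ∃ s : F, T a = a + s • u :=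
  key p h0 hu ha (by rw [hq]; exact one_ne_zero) (T.Q_apply_eq_zero.2 hu)
    (T.polar_apply_eq_zero.2 ha) (by rw [T.map_Q, hT, hq, map_one, mul_one])
    ((gam_E_one hT u a).symm.trans e)

omit p in
theorem kg (p : Par Q) : KG Q where
  p3 := p3 p.toPar0
  p4 := p4 p.toPar0
  nm := nm
  w1 := w1 p.toPar0
  val := val
  t2 a := by rw [ta, ← map_mul, ← map_mul, refl_mul_self, map_one, map_one]
  tE a u x := gam_E_one rfl u x
  fx := fxa p.toPar0
  tw a g := by rw [tw, ← gam_ofO, gm]; rfl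
  sc a s hs := by rw [ta, ta, refl_smul hs]
  gm := gm
  out := out p.toPar0
  inj := inj p.toPar0
  iso T h1 h2 := (Gam.mem_range_ofO.2 ⟨h2, h1⟩).imp fun _ => Eq.symm
  rr a x ha hx h := by
    rw [E_val, eich_eq_refl_mul_refl hx h (by rw [ha]; exact one_ne_zero), ha, one_smul]
  ec := ec p.toPar0
  eg := eg
  en := en p.toPar0
  rn := rn p.toPar0
  mv := mv
  cE := cE p.toPar0
  cG := cG p.toPar0

omit p in
theorem jobKG : JobKG := fun _ _ _ _ _ _ _ _ _ p _ => kg p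

end H86.O6.JKG
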